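import Cfsg.Agent.Lib.KnownC.AutPSL.Descent
import Cfsg.Agent.Lib.Classical.HermBasic

set_option autoImplicit false
set_option linter.unusedSectionVars false

/-! Field and graph-field automorphisms of prime order in a coset of the inner-diagonal group. -/

namespace CfsgLib.KnownC.AutPSL

open Matrix

variable {F : Type*} [Field F] {n : ℕ}

local notation "PSLn" => Matrix.ProjectiveSpecialLinearGroup (Fin n) F

theorem semiPow_succ' (A : GL (Fin n) F) (σ : F ≃+* F) (k : ℕ) :
    semiPow A σ (k + 1) = semiPow A σ k * Matrix.GeneralLinearGroup.map (σ ^ k).toRingHom A := by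
  induction k with
  | zero =>
    show A * Matrix.GeneralLinearGroup.map σ.toRingHom 1 = 1 * _
    rw [map_one, mul_one, one_mul]
    exact Units.ext (Matrix.ext fun i j => rfl)
  | succ k ih =>
    show A * Matrix.GeneralLinearGroup.map σ.toRingHom (semiPow A σ (k + 1)) = _
    conv_lhs => rw [ih]
    rw [map_mul, ← mul_assoc, pow_succ']
    rfl

theorem semiPow_one (σ : F ≃+* F) (k : ℕ) : semiPow (1 : GL (Fin n) F) σ k = 1 := by
  induction k with
  | zero => rfl
  | succ k ih => rw [semiPow, ih, map_one, one_mul]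

theorem scl_injective (hn : 1 ≤ n) : Function.Injective (scl : Fˣ → GL (Fin n) F) := fun c d h => by
  have := congrArg (fun g : GL (Fin n) F => (g : Matrix (Fin n) (Fin n) F) ⟨0, by omega⟩ ⟨0, by omega⟩) h
  simpa [scl_coe, Units.val_inj] using this

theorem semiAut_stdpow_eq_one (hn : 2 ≤ n) (σ : F ≃+* F) (k : ℕ) :
    semiAut (1 : GL (Fin n) F) σ ^ k = 1 ↔ σ ^ k = 1 := by
  rw [semiAut_pow, semiPow_one]
  constructor
  · intro h; exact (semi_eq_one hn h).1
  · intro h; rw [h]; exact semiAut_one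

theorem orderOf_std (hn : 2 ≤ n) (σ : F ≃+* F) : orderOf (semiAut (1 : GL (Fin n) F) σ) = orderOf σ :=
  orderOf_eq_orderOf_iff.2 fun k => semiAut_stdpow_eq_one hn σ k

theorem map_refl_eq (g : GL (Fin n) F) : Matrix.GeneralLinearGroup.map (RingEquiv.refl F).toRingHom g = g :=
  Units.ext (Matrix.ext fun _ _ => rfl)

variable [Finite F]

/-- In the coset of a field automorphism of order `r` the elements of order `r` are conjugate. -/
theorem field_conj (hn : 2 ≤ n) (A : GL (Fin n) F) (σ : F ≃+* F) {r : ℕ} (hr : 1 ≤ r) (hσ : orderOf σ = r)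
    (h : semiAut A σ ^ r = 1) :
    ∃ g : GL (Fin n) F, semiAut A σ =
      semiAut g (RingEquiv.refl F) * semiAut 1 σ * (semiAut g (RingEquiv.refl F))⁻¹ := by
  rw [semiAut_pow, ← hσ, pow_orderOf_eq_one, hσ, ← semiAut_one, show (1 : F ≃+* F) = RingEquiv.refl F from rfl] at h
  obtain ⟨-, c, hc⟩ := (semi_eq_iff hn).1 h
  rw [mul_one] at hc
  have hfix : σ (c : F) = (c : F) := by
    have h1 := semiPow_succ' A σ r
    rw [semiPow, hc, map_scl, ← hσ, pow_orderOf_eq_one, show (1 : F ≃+* F) = RingEquiv.refl F from rfl, map_refl_eq,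
      ← scl_comm] at h1
    have h2 : Units.map σ.toRingHom.toMonoidHom c = c := scl_injective (n := n) (by omega) (mul_right_cancel h1)
    exact congrArg Units.val h2
  obtain ⟨m, hm⟩ := exists_nrm σ hσ hr ((c⁻¹ : Fˣ) : F) (by rw [Units.val_inv_eq_inv_val, map_inv₀, hfix])
  have hm0 : m ≠ 0 := fun h0 => (c⁻¹).ne_zero (by
    obtain ⟨k, rfl⟩ : ∃ k, r = k + 1 := ⟨r - 1, by omega⟩
    rw [← hm, h0]; simp [nrm])
  have hA : semiPow (scl (Units.mk0 m hm0) * A) σ r = 1 := by
    rw [semiPow_scl_mul (Units.mk0 m hm0) A σ r c⁻¹ hm.symm, hc, ← scl_mul, inv_mul_cancel, scl_one]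
  obtain ⟨g, hg⟩ := exists_descent _ σ hσ hr hA
  refine ⟨g, ?_⟩
  rw [eq_mul_inv_iff_mul_eq, ← semiAut_scl_mul (Units.mk0 m hm0) A σ, semiAut_mul, semiAut_mul, hg, map_one, mul_one]
  rfl

omit [Finite F] in
theorem it_inv : (itAut : MulAut PSLn)⁻¹ = itAut := inv_eq_of_mul_eq_one_right itAut_sq

omit [Finite F] in
theorem gf_sq (A : GL (Fin n) F) (σ : F ≃+* F) :
    (semiAut A σ * itAut) * (semiAut A σ * itAut) =
      semiAut (A * Matrix.GeneralLinearGroup.map σ.toRingHom (itGL A)) (σ * σ) := by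
  rw [mul_assoc, ← mul_assoc itAut, it_semi, mul_assoc, itAut_sq, mul_one, semiAut_mul]
  rfl

omit [Finite F] in
theorem gf_order (hn : 3 ≤ n) (σ : F ≃+* F) {r : ℕ} (hr : r.Prime)
    (h : orderOf (semiAut (1 : GL (Fin n) F) σ * itAut) = r) : r = 2 ∧ σ * σ = 1 := by
  have h1 : itGL (1 : GL (Fin n) F) = 1 := Units.ext (by simp [itGL])
  have hsq : (semiAut (1 : GL (Fin n) F) σ * itAut) ^ 2 = semiAut 1 (σ * σ) := by
    rw [sq, gf_sq, h1, map_one, mul_one]
  rcases hr.eq_two_or_odd' with h2 | ⟨k, hk⟩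
  · refine ⟨h2, ?_⟩
    have := pow_orderOf_eq_one (semiAut (1 : GL (Fin n) F) σ * itAut)
    rw [h, h2, hsq] at this
    exact (semi_eq_one (by omega) this).1
  · exfalso
    have := pow_orderOf_eq_one (semiAut (1 : GL (Fin n) F) σ * itAut)
    rw [h, hk, pow_succ, pow_mul, hsq, semiAut_pow, semiPow_one, ← mul_assoc, semiAut_mul, map_one, mul_one] at this
    exact it_ne_semi hn _ _ (eq_inv_of_mul_eq_one_right this |>.trans (semiAut_inv _ _))

/-- A Hermitian matrix over a finite field is `h h*`. -/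
theorem exists_hermitian_factor (σ : F ≃+* F) (hσ : σ * σ = 1) (hne : σ ≠ RingEquiv.refl F) (D : GL (Fin n) F)
    (hD : ((D : Matrix (Fin n) (Fin n) F).transpose).map σ = D) :
    ∃ h : GL (Fin n) F, (D : Matrix (Fin n) (Fin n) F) =
      (h : Matrix (Fin n) (Fin n) F) * ((h : Matrix (Fin n) (Fin n) F).transpose).map σ := by
  have hinv : ∀ a, σ (σ a) = a := fun a => RingEquiv.congr_fun hσ a
  let B : (Fin n → F) →ₛₗ[σ.toRingHom] (Fin n → F) →ₗ[F] F :=
    LinearMap.mk₂'ₛₗ σ.toRingHom (RingHom.id F)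
      (fun x y => (fun i => σ (x i)) ⬝ᵥ ((D : Matrix (Fin n) (Fin n) F) *ᵥ y))
      (fun x x' y => by
        rw [← add_dotProduct]; congr 1; funext i; exact map_add σ _ _)
      (fun c x y => by
        rw [← smul_dotProduct]; congr 1; funext i; exact map_mul σ _ _)
      (fun x y y' => by rw [Matrix.mulVec_add, dotProduct_add])
      (fun c x y => by rw [Matrix.mulVec_smul, dotProduct_smul]; rfl)
  have hB : Classical.IsHermitian B := by
    refine ⟨⟨hinv, fun h => hne (RingEquiv.ext fun x => RingHom.congr_fun h x)⟩, fun x y => ?_⟩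
    show σ ((fun i => σ (x i)) ⬝ᵥ ((D : Matrix (Fin n) (Fin n) F) *ᵥ y)) =
      (fun i => σ (y i)) ⬝ᵥ ((D : Matrix (Fin n) (Fin n) F) *ᵥ x)
    have e := RingHom.map_dotProduct σ.toRingHom (fun i => σ (x i)) ((D : Matrix (Fin n) (Fin n) F) *ᵥ y)
    refine e.trans ?_
    have e1 : (σ.toRingHom ∘ fun i => σ (x i)) = x := funext fun i => hinv _
    have e2 : (σ.toRingHom ∘ ((D : Matrix (Fin n) (Fin n) F) *ᵥ y)) =
        (D : Matrix (Fin n) (Fin n) F).transpose *ᵥ (fun i => σ (y i)) := funext fun i => by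
      have h3 := RingHom.map_mulVec σ.toRingHom (D : Matrix (Fin n) (Fin n) F) y i
      refine h3.trans ?_
      refine congrArg (fun M : Matrix (Fin n) (Fin n) F => (M *ᵥ fun i => σ (y i)) i) ?_
      conv_lhs => rw [← hD]
      ext a b
      exact hinv _
    rw [e1, e2, Matrix.mulVec_transpose, dotProduct_comm, ← Matrix.dotProduct_mulVec]
  have hN : B.SeparatingRight := fun y hy => by
    have h0 : (D : Matrix (Fin n) (Fin n) F) *ᵥ y = 0 := funext fun i => by
      have := hy (Pi.single i 1)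
      change (fun j => σ ((Pi.single i 1 : Fin n → F) j)) ⬝ᵥ _ = 0 at this
      rw [show (fun j => σ ((Pi.single i 1 : Fin n → F) j)) = Pi.single i 1 from funext fun j => by
        rcases eq_or_ne j i with rfl | hj <;> simp [*], single_dotProduct, one_mul] at this
      exact this
    by_contra hne'
    exact gl_ne_zero D hne' h0
  obtain ⟨b, hb⟩ := hB.exists_orthonormal hN
  have hd : Module.finrank F (Fin n → F) = n := by rw [Module.finrank_fintype_fun_eq_card, Fintype.card_fin]
  let P : Matrix (Fin n) (Fin n) F := Matrix.of fun i j => b ((finCongr hd).symm j) i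
  have hP : IsUnit P := by
    rw [← Matrix.linearIndependent_cols_iff_isUnit]
    exact b.linearIndependent.comp _ (finCongr hd).symm.injective
  have hPDP : (P.map σ).transpose * (D : Matrix (Fin n) (Fin n) F) * P = 1 := by
    ext i j
    rw [Matrix.mul_assoc]
    have := hb ((finCongr hd).symm i) ((finCongr hd).symm j)
    rw [Matrix.one_apply]
    refine Eq.trans ?_ (this.trans (by simp [Fin.ext_iff]))
    rw [Matrix.mul_apply]
    rfl
  obtain ⟨u, hu⟩ := hP
  let g : GL (Fin n) F := itGL (Matrix.GeneralLinearGroup.map σ.toRingHom u)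
  refine ⟨g, ?_⟩
  have hg : (g : Matrix (Fin n) (Fin n) F) =
      ((((u⁻¹ : GL (Fin n) F) : Matrix (Fin n) (Fin n) F)).map σ).transpose := rfl
  rw [hg, Matrix.transpose_transpose]
  have e1 : ((((u⁻¹ : GL (Fin n) F) : Matrix (Fin n) (Fin n) F)).map σ).map σ = ((u⁻¹ : GL (Fin n) F) : Matrix _ _ F) := by
    ext i j; exact hinv _
  rw [e1]
  rw [← hu] at hPDP
  have e2 := congrArg (fun M => ((((u⁻¹ : GL (Fin n) F) : Matrix (Fin n) (Fin n) F)).map σ).transpose * M *
    ((u⁻¹ : GL (Fin n) F) : Matrix _ _ F)) hPDP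
  simp only [Matrix.mul_one, Matrix.mul_assoc, ← Units.val_mul, mul_inv_cancel, Units.val_one] at e2
  rw [← Matrix.mul_assoc, ← Matrix.transpose_mul, ← Matrix.map_mul, ← Units.val_mul, mul_inv_cancel, Units.val_one,
    Matrix.map_one _ (map_zero σ) (map_one σ), Matrix.transpose_one, Matrix.one_mul] at e2
  rw [mul_inv_cancel_right] at e2
  exact e2

/-- In the coset of a graph-field automorphism of order two the involutions are conjugate. -/
theorem gf_conj (hn : 3 ≤ n) (A : GL (Fin n) F) (σ : F ≃+* F) (hσ : σ * σ = 1) (hne : σ ≠ RingEquiv.refl F)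
    (h : (semiAut A σ * itAut) ^ 2 = 1) :
    ∃ g : GL (Fin n) F, semiAut A σ * itAut =
      semiAut g (RingEquiv.refl F) * (semiAut 1 σ * itAut) * (semiAut g (RingEquiv.refl F))⁻¹ := by
  have hinv : ∀ a, σ (σ a) = a := fun a => RingEquiv.congr_fun hσ a
  rw [sq, gf_sq, hσ] at h
  obtain ⟨-, c, hc⟩ := semi_eq_one (by omega) h
  rw [Units.val_mul] at hc
  have hA : (A : Matrix (Fin n) (Fin n) F) = (c : F) • ((A : Matrix (Fin n) (Fin n) F).transpose).map σ := by
    have e := congrArg (fun M => M * ((A : Matrix (Fin n) (Fin n) F).transpose).map σ) hc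
    simp only [Matrix.smul_mul, Matrix.one_mul] at e
    rw [← e, Matrix.mul_assoc]
    symm
    show (A : Matrix (Fin n) (Fin n) F) * ((((A⁻¹ : GL (Fin n) F) : Matrix (Fin n) (Fin n) F).transpose).map σ *
      ((A : Matrix (Fin n) (Fin n) F).transpose).map σ) = _
    rw [← Matrix.map_mul, ← Matrix.transpose_mul, ← Units.val_mul, mul_inv_cancel, Units.val_one, Matrix.transpose_one,
      Matrix.map_one _ (map_zero σ) (map_one σ), Matrix.mul_one]
  have hcc : (c : F) * σ (c : F) = 1 := by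
    obtain ⟨i, j, hij⟩ : ∃ i j, (A : Matrix (Fin n) (Fin n) F) i j ≠ 0 := by
      by_contra hcon
      simp only [not_exists, not_not] at hcon
      have h0 : (A : Matrix (Fin n) (Fin n) F) = 0 := Matrix.ext hcon
      have h1 : ((A * A⁻¹ : GL (Fin n) F) : Matrix (Fin n) (Fin n) F) = 0 := by rw [Units.val_mul, h0, Matrix.zero_mul]
      rw [mul_inv_cancel, Units.val_one] at h1
      exact one_ne_zero (α := F) (by simpa using congrFun (congrFun h1 ⟨0, by omega⟩) ⟨0, by omega⟩)
    have h1 : ∀ a b, (A : Matrix (Fin n) (Fin n) F) a b = (c : F) * σ ((A : Matrix (Fin n) (Fin n) F) b a) := fun a b => by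
      conv_lhs => rw [hA]
      rfl
    have h2 := h1 i j
    rw [h1 j i, map_mul, hinv, ← mul_assoc] at h2
    exact (mul_eq_right₀ hij).1 h2.symm
  have hconj : Classical.IsConjugation σ.toRingHom :=
    ⟨hinv, fun e => hne (RingEquiv.ext fun x => RingHom.congr_fun e x)⟩
  obtain ⟨z, hz0, hz⟩ := hconj.exists_div_eq hcc
  have hσz : σ z = z / (c : F) := by
    rw [eq_div_iff c.ne_zero, mul_comm]; exact hz.symm
  let D : GL (Fin n) F := scl (Units.mk0 z hz0)⁻¹ * A
  have hD : ((D : Matrix (Fin n) (Fin n) F).transpose).map σ = D := by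
    have e : (D : Matrix (Fin n) (Fin n) F) = z⁻¹ • (A : Matrix (Fin n) (Fin n) F) := by
      show ((scl _ * A : GL (Fin n) F) : Matrix (Fin n) (Fin n) F) = _
      rw [Units.val_mul, scl_coe, Units.val_inv_eq_inv_val, Units.val_mk0, Matrix.smul_mul, Matrix.one_mul]
    rw [e]
    conv_rhs => rw [hA]
    ext a b
    simp only [Matrix.map_apply, Matrix.transpose_apply, Matrix.smul_apply, smul_eq_mul, map_mul, map_inv₀, hσz]
    field_simp
  obtain ⟨g, hg⟩ := exists_hermitian_factor σ hσ hne D hD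
  refine ⟨g, ?_⟩
  rw [eq_mul_inv_iff_mul_eq, ← semiAut_scl_mul (Units.mk0 z hz0)⁻¹ A σ, mul_assoc, it_semi, ← mul_assoc, ← mul_assoc,
    semiAut_mul, semiAut_mul, map_one, mul_one]
  congr 2
  refine Units.ext ?_
  rw [Units.val_mul]
  show (D : Matrix (Fin n) (Fin n) F) * ((((g⁻¹ : GL (Fin n) F) : Matrix (Fin n) (Fin n) F).transpose).map σ) = g
  rw [hg, Matrix.mul_assoc, ← Matrix.map_mul, ← Matrix.transpose_mul, ← Units.val_mul, inv_mul_cancel, Units.val_one,
    Matrix.transpose_one, Matrix.map_one _ (map_zero σ) (map_one σ), Matrix.mul_one]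

omit [Finite F] in
theorem it_inndiag (A : GL (Fin n) F) : itAut * semiAut A (RingEquiv.refl F) * itAut = semiAut (itGL A) (RingEquiv.refl F) := by
  rw [it_semi, mul_assoc, itAut_sq, mul_one]

theorem inndiag_normal (hn : 2 ≤ n) : (Cfsg.inndiagPSL n F).Normal := by
  constructor
  intro δ hδ α
  obtain ⟨B, rfl⟩ := (inndiag_iff_mem δ).1 hδ
  rw [inndiag_iff_mem]
  have key : ∀ (A : GL (Fin n) F) (σ : F ≃+* F) (C : GL (Fin n) F), ∃ D,
      semiAut A σ * semiAut C (RingEquiv.refl F) * (semiAut A σ)⁻¹ = semiAut D (RingEquiv.refl F) := fun A σ C => by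
    rw [semiAut_inv, semiAut_mul, semiAut_mul]
    refine ⟨A * Matrix.GeneralLinearGroup.map σ.toRingHom C *
      Matrix.GeneralLinearGroup.map σ.toRingHom (Matrix.GeneralLinearGroup.map σ.symm.toRingHom A⁻¹), ?_⟩
    congr 1
    exact RingEquiv.ext fun x => σ.apply_symm_apply x
  obtain ⟨A, σ, rfl | rfl⟩ := exists_semi hn α
  · exact key A σ B
  · obtain ⟨D, hD⟩ := key A σ (itGL B)
    refine ⟨D, ?_⟩
    rw [← hD, ← it_inndiag, _root_.mul_inv_rev, it_inv]
    group

end CfsgLib.KnownC.AutPSL
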