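import Cfsg.Prelude.Def_KGroupFacts
import Cfsg.Agent.Lib.KnownC.AutPSL.Conj
import Mathlib

set_option autoImplicit false
set_option linter.unusedSectionVars false

/-! The outer automorphism group of `PSL_n(q)`. -/

namespace CfsgLib.KnownC.AutPSL

open Matrix

variable {F : Type*} [Field F] {n : ℕ}

local notation "SLn" => Matrix.SpecialLinearGroup (Fin n) F
local notation "PSLn" => Matrix.ProjectiveSpecialLinearGroup (Fin n) F

theorem conj_mk (s : SLn) :
    MulAut.conj (QuotientGroup.mk s : PSLn) = semiAut (Matrix.SpecialLinearGroup.toGL s) (RingEquiv.refl F) := by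
  refine MulEquiv.ext fun x => ?_
  induction x using QuotientGroup.induction_on with
  | _ t =>
    rw [MulAut.conj_apply, semiAut_mk, ← QuotientGroup.mk_inv, ← QuotientGroup.mk_mul, ← QuotientGroup.mk_mul]
    exact congrArg _ (Subtype.ext rfl)

theorem inn_le_inndiag : Cfsg.Inn PSLn ≤ Cfsg.inndiagPSL n F := by
  rintro _ ⟨g, rfl⟩
  induction g using QuotientGroup.induction_on with
  | _ s => rw [conj_mk]; exact semi_mem_inndiag _

theorem mem_inn_iff (hn : 2 ≤ n) (A : GL (Fin n) F) :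
    semiAut A (RingEquiv.refl F) ∈ Cfsg.Inn PSLn ↔ ∃ c : Fˣ, c ^ n = Matrix.GeneralLinearGroup.det A := by
  have hdet : ∀ c : Fˣ, Matrix.GeneralLinearGroup.det (scl c : GL (Fin n) F) = c ^ n := fun c => Units.ext (by
    rw [Matrix.GeneralLinearGroup.val_det_apply, scl_coe, Matrix.det_smul, Matrix.det_one, mul_one, Fintype.card_fin,
      Units.val_pow_eq_pow_val])
  constructor
  · rintro ⟨g, hg⟩
    induction g using QuotientGroup.induction_on with
    | _ s =>
      rw [conj_mk] at hg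
      obtain ⟨-, c, hc⟩ := (semi_eq_iff hn).1 hg.symm
      refine ⟨c, ?_⟩
      rw [hc, map_mul, hdet]
      have : Matrix.GeneralLinearGroup.det (Matrix.SpecialLinearGroup.toGL s) = 1 := Units.ext s.2
      rw [this, mul_one]
  · rintro ⟨c, hc⟩
    have h1 : (((scl c⁻¹ * A : GL (Fin n) F)) : Matrix (Fin n) (Fin n) F).det = 1 := by
      rw [← Matrix.GeneralLinearGroup.val_det_apply, map_mul, hdet, inv_pow, hc, inv_mul_cancel, Units.val_one]
    refine ⟨QuotientGroup.mk (ofGL _ h1), ?_⟩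
    rw [conj_mk, ← semiAut_scl_mul c⁻¹ A]
    congr 1
    exact Units.ext rfl

/-- A diagonal matrix of given determinant. -/
def dg (hn : 1 ≤ n) : Fˣ →* GL (Fin n) F where
  toFun u := ⟨Matrix.diagonal (Function.update (1 : Fin n → F) ⟨0, hn⟩ (u : F)), Matrix.diagonal (Function.update (1 : Fin n → F) ⟨0, hn⟩ ((u⁻¹ : Fˣ) : F)),
    by
      rw [Matrix.diagonal_mul_diagonal, ← Matrix.diagonal_one]; congr 1; funext i
      rcases eq_or_ne i ⟨0, hn⟩ with rfl | h <;> simp [*],
    by
      rw [Matrix.diagonal_mul_diagonal, ← Matrix.diagonal_one]; congr 1; funext i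
      rcases eq_or_ne i ⟨0, hn⟩ with rfl | h <;> simp [*]⟩
  map_one' := Units.ext (by simp)
  map_mul' u v := Units.ext (by
    show Matrix.diagonal _ = Matrix.diagonal _ * Matrix.diagonal _
    rw [Matrix.diagonal_mul_diagonal]; congr 1; funext i
    rcases eq_or_ne i ⟨0, hn⟩ with rfl | h <;> simp [*])

theorem det_dg (hn : 1 ≤ n) (u : Fˣ) : Matrix.GeneralLinearGroup.det (dg hn u : GL (Fin n) F) = u := Units.ext (by
  show (Matrix.diagonal (Function.update (1 : Fin n → F) ⟨0, hn⟩ (u : F))).det = u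
  rw [Matrix.det_diagonal, Finset.prod_update_of_mem (Finset.mem_univ _)]
  simp)

variable [Fintype F]

/-- The kernel part of the structure of the outer automorphism group. -/
theorem out_structure {H : Type*} [Group H] (hn : 2 ≤ n) (φ : MulAut PSLn →* H) (hsurj : Function.Surjective φ)
    (hker : φ.ker = Cfsg.inndiagPSL n F) :
    ∃ ψ : Cfsg.Out PSLn →* H, Function.Surjective ψ ∧ IsCyclic ψ.ker ∧ Nat.card ψ.ker = Nat.gcd n (Fintype.card F - 1) := by
  have hle : Cfsg.Inn PSLn ≤ φ.ker := hker ▸ inn_le_inndiag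
  set ψ := QuotientGroup.lift (Cfsg.Inn PSLn) φ hle
  refine ⟨ψ, fun h => ?_, ?_⟩
  · obtain ⟨a, rfl⟩ := hsurj h
    exact ⟨QuotientGroup.mk a, QuotientGroup.lift_mk' _ _ _⟩
  let d : Fˣ →* ψ.ker := MonoidHom.codRestrict ((QuotientGroup.mk' (Cfsg.Inn PSLn)).comp
    (MonoidHom.mk' (fun u => semiAut (dg (by omega : 1 ≤ n) u) (RingEquiv.refl F)) (fun u v => by
      rw [semiAut_mul, map_mul, map_refl_eq]; rfl))) ψ.ker (fun u => by
    show ψ (QuotientGroup.mk _) = 1
    rw [QuotientGroup.lift_mk']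
    exact MonoidHom.mem_ker.1 (hker ▸ semi_mem_inndiag _))
  have hd : Function.Surjective d := by
    rintro ⟨x, hx⟩
    induction x using QuotientGroup.induction_on with
    | _ a =>
      have ha : a ∈ φ.ker := by rw [MonoidHom.mem_ker] at hx ⊢; exact hx
      rw [hker, inndiag_iff_mem] at ha
      obtain ⟨A, rfl⟩ := ha
      refine ⟨Matrix.GeneralLinearGroup.det A, Subtype.ext ?_⟩
      show (QuotientGroup.mk (semiAut (dg _ _) _) : Cfsg.Out PSLn) = QuotientGroup.mk _
      rw [QuotientGroup.eq, semiAut_inv, semiAut_mul, RingEquiv.symm_refl, map_refl_eq, map_refl_eq]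
      show semiAut _ (RingEquiv.refl F) ∈ _
      rw [mem_inn_iff hn]
      exact ⟨1, by rw [one_pow, map_mul, map_inv, det_dg, inv_mul_cancel]⟩
  have hdker : d.ker = (powMonoidHom n : Fˣ →* Fˣ).range := by
    ext u
    rw [MonoidHom.mem_ker, Subtype.ext_iff]
    show (QuotientGroup.mk (semiAut (dg _ u) _) : Cfsg.Out PSLn) = 1 ↔ _
    rw [QuotientGroup.eq_one_iff, mem_inn_iff hn, det_dg]
    rfl
  refine ⟨isCyclic_of_surjective d hd, ?_⟩
  rw [← Nat.card_congr (QuotientGroup.quotientKerEquivOfSurjective d hd).toEquiv, ← Subgroup.index_eq_card, hdker,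
    IsCyclic.index_powMonoidHom_range, Nat.card_units, Nat.card_eq_fintype_card, Nat.gcd_comm]

/-- Automorphisms of a finite field form a cyclic group. -/
theorem ringAut_cyclic {p f : ℕ} [Fact p.Prime] (hF : Fintype.card F = p ^ f) :
    Nonempty ((F ≃+* F) ≃* Multiplicative (ZMod f)) := by
  classical
  obtain ⟨c, hc⟩ := CharP.exists F
  obtain ⟨m, hc', hm⟩ := FiniteField.card F c
  obtain ⟨hcp, hmf⟩ : c = p ∧ (m : ℕ) = f := by
    have hp : p.Prime := Fact.out
    have h1 : c ∣ p ^ f := hF ▸ hm ▸ dvd_pow_self c m.pos.ne'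
    have h2 := (Nat.prime_dvd_prime_iff_eq hc' hp).1 (hc'.dvd_of_dvd_pow h1)
    subst h2
    exact ⟨rfl, Nat.pow_right_injective hp.two_le (hm.symm.trans hF)⟩
  subst hcp
  letI := ZMod.algebra F c
  let e : (F ≃+* F) ≃* Gal(F/ZMod c) :=
    { toFun := fun σ => AlgEquiv.ofRingEquiv (f := σ) fun x =>
        RingHom.congr_fun (RingHom.ext_zmod (σ.toRingHom.comp (algebraMap (ZMod c) F)) (algebraMap (ZMod c) F)) x
      invFun := fun σ => σ.toRingEquiv
      left_inv := fun σ => RingEquiv.ext fun x => rfl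
      right_inv := fun σ => AlgEquiv.ext fun x => rfl
      map_mul' := fun σ τ => AlgEquiv.ext fun x => rfl }
  have hcard : Nat.card Gal(F/ZMod c) = f := by
    rw [IsGalois.card_aut_eq_finrank]
    have h := Module.card_eq_pow_finrank (K := ZMod c) (V := F)
    rw [ZMod.card, hF] at h
    exact (Nat.pow_right_injective hc'.two_le h).symm
  exact ⟨e.trans ((mulEquivOfCyclicCardEq (by rw [hcard, Nat.card_congr Multiplicative.toAdd, Nat.card_zmod])))⟩

end CfsgLib.KnownC.AutPSL
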