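import Cfsg.Agent.Lib.KnownC.AutPSL.Split

set_option autoImplicit false
set_option linter.unusedSectionVars false

/-! Involutory graph-field automorphisms of `PSL_n`. -/

namespace CfsgLib.KnownC.AutPSL

open Matrix

variable {F : Type*} [Field F] {n : ℕ}

local notation "SLn" => Matrix.SpecialLinearGroup (Fin n) F
local notation "PSLn" => Matrix.ProjectiveSpecialLinearGroup (Fin n) F

theorem itGL_one : itGL (1 : GL (Fin n) F) = 1 := Units.ext (by simp [itGL])

theorem gf_commute_iff (hn : 3 ≤ n) (A : GL (Fin n) F) (σ : F ≃+* F) (hinv : ∀ a, σ (σ a) = a) :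
    semiAut A (RingEquiv.refl F) * (semiAut 1 σ * itAut) = semiAut 1 σ * itAut * semiAut A (RingEquiv.refl F) ↔
      ∃ c : Fˣ, σ (c : F) = c ∧ ((A : Matrix (Fin n) (Fin n) F).map σ).transpose * A = (c : F) • 1 := by
  rw [← mul_assoc, semiAut_mul, map_one, mul_one, mul_assoc, it_semi, ← mul_assoc, semiAut_mul, one_mul]
  rw [mul_left_inj, semi_eq_iff (by omega)]
  constructor
  · rintro ⟨-, c, hc⟩
    have h1 : (A : Matrix (Fin n) (Fin n) F) * ((A : Matrix (Fin n) (Fin n) F).map σ).transpose = (c : F) • 1 := by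
      conv_lhs => arg 1; rw [hc, Units.val_mul, scl_coe, Matrix.smul_mul, Matrix.one_mul]
      rw [Matrix.smul_mul]
      congr 1
      show ((((A⁻¹ : GL (Fin n) F) : Matrix (Fin n) (Fin n) F).transpose).map σ) *
        ((A : Matrix (Fin n) (Fin n) F).map σ).transpose = 1
      rw [Matrix.transpose_map, ← Matrix.transpose_mul, ← Matrix.map_mul, ← Units.val_mul, mul_inv_cancel,
        Units.val_one, Matrix.map_one _ (map_zero σ) (map_one σ), Matrix.transpose_one]
    have h2 : ((A : Matrix (Fin n) (Fin n) F).map σ).transpose * A = (c : F) • 1 := by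
      have e := congrArg (fun M => ((A⁻¹ : GL (Fin n) F) : Matrix (Fin n) (Fin n) F) * M * A) h1
      simp only [← Matrix.mul_assoc, ← Units.val_mul, inv_mul_cancel, Units.val_one, Matrix.one_mul] at e
      rw [e, Matrix.mul_smul, Matrix.mul_one, Matrix.smul_mul, ← Units.val_mul, inv_mul_cancel, Units.val_one]
    refine ⟨c, ?_, h2⟩
    have h3 := congrFun (congrFun h2 ⟨0, by omega⟩) ⟨0, by omega⟩
    simp only [Matrix.mul_apply, Matrix.transpose_apply, Matrix.map_apply, Matrix.smul_apply, Matrix.one_apply_eq,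
      smul_eq_mul, mul_one] at h3
    rw [← h3, map_sum]
    exact Finset.sum_congr rfl fun i _ => by rw [map_mul, hinv, mul_comm]
  · rintro ⟨c, -, h2⟩
    refine ⟨rfl, c, Units.ext ?_⟩
    have e : ((A : Matrix (Fin n) (Fin n) F).map σ).transpose = (c : F) • ((A⁻¹ : GL (Fin n) F) : Matrix (Fin n) (Fin n) F) := by
      have e := congrArg (fun M => M * ((A⁻¹ : GL (Fin n) F) : Matrix (Fin n) (Fin n) F)) h2
      simp only [Matrix.mul_assoc, ← Units.val_mul, mul_inv_cancel, Units.val_one, Matrix.mul_one, Matrix.smul_mul,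
        Matrix.one_mul] at e
      exact e
    rw [Units.val_mul, scl_coe, Matrix.smul_mul, Matrix.one_mul]
    show (A : Matrix (Fin n) (Fin n) F) = (c : F) • (((A⁻¹ : GL (Fin n) F) : Matrix (Fin n) (Fin n) F).transpose).map σ
    have h3 : σ (c : F) = (c : F) := by
      have h3 := congrFun (congrFun h2 ⟨0, by omega⟩) ⟨0, by omega⟩
      simp only [Matrix.mul_apply, Matrix.transpose_apply, Matrix.map_apply, Matrix.smul_apply, Matrix.one_apply_eq,
        smul_eq_mul, mul_one] at h3
      rw [← h3, map_sum]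
      exact Finset.sum_congr rfl fun i _ => by rw [map_mul, hinv, mul_comm]
    ext i j
    have := congrFun (congrFun e j) i
    simp only [Matrix.transpose_apply, Matrix.map_apply, Matrix.smul_apply, smul_eq_mul] at this ⊢
    rw [← hinv ((A : Matrix (Fin n) (Fin n) F) i j), this, map_mul, h3]

variable [Fintype F]

theorem sigma_sq_of_orderOf {σ : F ≃+* F} (h : orderOf σ = 2) : ∀ a, σ (σ a) = a := fun a => by
  have h2 := pow_orderOf_eq_one σ
  rw [h, sq] at h2
  exact RingEquiv.congr_fun h2 a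

/-- The involution of a field of square order is the power map. -/
theorem involution_eq_pow {p f : ℕ} [Fact p.Prime] (hF : Fintype.card F = p ^ f) (σ : F ≃+* F) (hσ : orderOf σ = 2) :
    2 ∣ f ∧ ∀ x : F, σ x = x ^ p ^ (f / 2) := by
  classical
  obtain ⟨hf2, hK⟩ := card_fixField hF σ hσ (by omega)
  refine ⟨hf2, fun x => ?_⟩
  have hinv := sigma_sq_of_orderOf hσ
  letI : Fintype (fixField σ) := Fintype.ofFinite _
  obtain ⟨c, hc⟩ := CharP.exists F
  obtain ⟨m, hc', hm⟩ := FiniteField.card F c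
  have hp : p.Prime := Fact.out
  obtain rfl : c = p := (Nat.prime_dvd_prime_iff_eq hc' hp).1 (hc'.dvd_of_dvd_pow (hF ▸ hm ▸ dvd_pow_self c m.pos.ne'))
  set q := c ^ (f / 2)
  haveI : ExpChar F c := ExpChar.prime hc'
  have hsum : (x + σ x) ^ q = x + σ x := by
    have h := FiniteField.pow_card (⟨x + σ x, by rw [mem_fixField, map_add, hinv, add_comm]⟩ : fixField σ)
    rw [← Nat.card_eq_fintype_card, hK] at h
    exact congrArg Subtype.val h
  have hprod : (x * σ x) ^ q = x * σ x := by
    have h := FiniteField.pow_card (⟨x * σ x, by rw [mem_fixField, map_mul, hinv, mul_comm]⟩ : fixField σ)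
    rw [← Nat.card_eq_fintype_card, hK] at h
    exact congrArg Subtype.val h
  have hroot : (x ^ q - x) * (x ^ q - σ x) = 0 := by
    rw [add_pow_expChar_pow] at hsum
    rw [mul_pow] at hprod
    have e : (σ x) ^ q = x + σ x - x ^ q := by rw [← hsum]; ring
    rw [e] at hprod
    linear_combination -hprod
  rcases mul_eq_zero.1 hroot with h | h
  · have hxq : x ^ q = x := sub_eq_zero.1 h
    have hmem : x ∈ fixField σ := by
      by_contra hx
      let s : Finset F := insert x ((Finset.univ : Finset (fixField σ)).map (Function.Embedding.subtype _))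
      have hq1 : 1 < q := by rw [← hK]; exact Finite.one_lt_card
      have hle : s.card ≤ q := by
        refine (Finset.card_le_card (t := (Polynomial.X ^ q - Polynomial.X : Polynomial F).roots.toFinset) ?_).trans
          ((Multiset.toFinset_card_le _).trans ((Polynomial.card_roots' _).trans
            (le_of_eq (FiniteField.X_pow_card_sub_X_natDegree_eq F hq1))))
        intro y hy
        rw [Multiset.mem_toFinset, Polynomial.mem_roots (FiniteField.X_pow_card_sub_X_ne_zero F hq1),
          Polynomial.IsRoot.def, Polynomial.eval_sub, Polynomial.eval_pow, Polynomial.eval_X, sub_eq_zero]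
        rcases Finset.mem_insert.1 hy with rfl | hy
        · exact hxq
        · obtain ⟨z, -, rfl⟩ := Finset.mem_map.1 hy
          have h' := FiniteField.pow_card z
          rw [← Nat.card_eq_fintype_card, hK] at h'
          exact congrArg Subtype.val h'
      rw [Finset.card_insert_of_notMem (by
        simp only [Finset.mem_map, Finset.mem_univ, true_and, not_exists]
        intro z hz
        exact hx (hz ▸ z.2)), Finset.card_map, Finset.card_univ, ← Nat.card_eq_fintype_card, hK] at hle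
      omega
    rw [hxq]; exact hmem
  · exact (sub_eq_zero.1 h).symm

/-- The standard form of an involutory graph-field automorphism. -/
theorem gf_normal_form (hn : 3 ≤ n) (x : MulAut PSLn) (hx : Cfsg.IsGraphFieldAutClassPSL x) (hx2 : orderOf x = 2) :
    ∃ σ : F ≃+* F, orderOf σ = 2 ∧ Cfsg.IsConjUnder (Cfsg.inndiagPSL n F) (semiAut 1 σ * itAut) x := by
  obtain ⟨-, α, φ, γ, σ, hne, hφ, hγ, h⟩ := hx
  rw [(stdField_iff σ φ).1 hφ, (invTranspose_iff γ).1 hγ] at h
  set x0 := semiAut (1 : GL (Fin n) F) σ * itAut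
  have hx0 : orderOf x0 = 2 := by rw [← h]; exact ((MulAut.conj α).orderOf_eq x).trans hx2
  obtain ⟨-, hσ2⟩ := gf_order hn σ Nat.prime_two hx0
  have hσ : orderOf σ = 2 := orderOf_eq_prime (by rw [sq, hσ2]) hne
  refine ⟨σ, hσ, ?_⟩
  obtain ⟨A, τ, hα⟩ := exists_semi (by omega : 2 ≤ n) α⁻¹
  obtain ⟨C, hC, hsplit⟩ : ∃ C : MulAut PSLn, C * x0 = x0 * C ∧ α⁻¹ = semiAut A (RingEquiv.refl F) * C := by
    obtain ⟨e⟩ : Nonempty (∀ τ : F ≃+* F, τ * σ = σ * τ) := by
      obtain ⟨p, hp⟩ := CharP.exists F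
      obtain ⟨m, hp', hm⟩ := FiniteField.card F p
      haveI := Fact.mk hp'
      obtain ⟨e⟩ := ringAut_cyclic (F := F) hm
      exact ⟨fun τ => e.injective (by rw [map_mul, map_mul, mul_comm])⟩
    have hstd : semiAut (1 : GL (Fin n) F) τ * x0 = x0 * semiAut 1 τ := by
      show _ * (_ * _) = _ * _ * _
      rw [← mul_assoc, semiAut_mul, mul_assoc (semiAut 1 σ), it_semi, itGL_one, ← mul_assoc (semiAut 1 σ),
        semiAut_mul, map_one, map_one, show σ.trans τ = τ.trans σ from e τ]
    have hit : itAut * x0 = x0 * itAut := by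
      show itAut * (_ * _) = _ * _ * _
      rw [← mul_assoc, it_semi, itGL_one]
    rcases hα with hα | hα
    · refine ⟨semiAut 1 τ, hstd, ?_⟩
      rw [hα, semiAut_mul, map_one, mul_one]; rfl
    · refine ⟨semiAut 1 τ * itAut, by rw [mul_assoc, hit, ← mul_assoc, hstd, mul_assoc], ?_⟩
      rw [hα, ← mul_assoc, semiAut_mul, map_one, mul_one]; rfl
  refine ⟨semiAut A (RingEquiv.refl F), semi_mem_inndiag A, ?_⟩
  calc x = α⁻¹ * (α * x * α⁻¹) * α⁻¹⁻¹ := by group
    _ = _ := by rw [h, hsplit, _root_.mul_inv_rev, mul_assoc (semiAut A _) C, hC]; simp only [x0]; group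

/-- Commuting with the standard graph-field involution: a scalar times a unitary matrix. -/
theorem gf_commute_unitary (hn : 3 ≤ n) (A : GL (Fin n) F) (σ : F ≃+* F) (hσ : orderOf σ = 2)
    (h : semiAut A (RingEquiv.refl F) * (semiAut 1 σ * itAut) = semiAut 1 σ * itAut * semiAut A (RingEquiv.refl F)) :
    ∃ (m : Fˣ) (B : GL (Fin n) F), A = scl m * B ∧ ((B : Matrix (Fin n) (Fin n) F).map σ).transpose * B = 1 := by
  have hinv := sigma_sq_of_orderOf hσ
  obtain ⟨c, hc, h2⟩ := (gf_commute_iff hn A σ hinv).1 h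
  obtain ⟨m, hm⟩ := exists_nrm σ hσ (by omega) (c : F) hc
  have hm0 : m ≠ 0 := fun h0 => c.ne_zero (by rw [← hm, h0]; simp [nrm])
  refine ⟨Units.mk0 m hm0, scl (Units.mk0 m hm0)⁻¹ * A, by rw [← mul_assoc, ← scl_mul, mul_inv_cancel, scl_one, one_mul], ?_⟩
  have e : ((scl (Units.mk0 m hm0)⁻¹ * A : GL (Fin n) F) : Matrix (Fin n) (Fin n) F) = m⁻¹ • (A : Matrix (Fin n) (Fin n) F) := by
    rw [Units.val_mul, scl_coe, Units.val_inv_eq_inv_val, Units.val_mk0, Matrix.smul_mul, Matrix.one_mul]
  have e2 : (m⁻¹ • (A : Matrix (Fin n) (Fin n) F)).map σ = σ m⁻¹ • (A : Matrix (Fin n) (Fin n) F).map σ := by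
    ext i j; simp
  rw [e, e2, Matrix.transpose_smul, Matrix.smul_mul, Matrix.mul_smul, h2, smul_smul, smul_smul, ← hm]
  have hns : σ m ≠ 0 := fun h0 => hm0 (σ.injective (by rw [h0, map_zero]))
  rw [show σ m⁻¹ * m⁻¹ * nrm σ 2 m = 1 by simp only [nrm, map_one, mul_one, map_inv₀]; field_simp, one_smul]

theorem gu_mem_iff (σ : F ≃+* F) (q : ℕ) (hq : ∀ x, σ x = x ^ q) (hinv : ∀ a, σ (σ a) = a) (B : GL (Fin n) F) :
    B ∈ Cfsg.GU n F q ↔ ((B : Matrix (Fin n) (Fin n) F).map σ).transpose * B = 1 := by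
  have hform : ∀ u v : Fin n → F, Cfsg.hermForm n F q u v = (fun i => σ (v i)) ⬝ᵥ u := fun u v => by
    simp only [Cfsg.hermForm, ← hq, dotProduct]
    exact Finset.sum_congr rfl fun i _ => mul_comm _ _
  constructor
  · intro h
    ext i j
    have h' := h (Pi.single j 1) (Pi.single i 1)
    rw [hform, hform] at h'
    simp only [Units.coeHom_apply, Matrix.mulVec_single_one, Matrix.col_apply] at h'
    rw [Matrix.mul_apply, Matrix.one_apply]
    refine h'.trans ?_
    rw [dotProduct_single, mul_one]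
    rcases eq_or_ne j i with rfl | hij
    · simp
    · simp [hij, Ne.symm hij]
  · intro h u v
    rw [hform, hform]
    simp only [Units.coeHom_apply]
    have e : (fun i => σ (((B : Matrix (Fin n) (Fin n) F) *ᵥ v) i)) =
        (B : Matrix (Fin n) (Fin n) F).map σ *ᵥ fun i => σ (v i) :=
      funext fun i => RingHom.map_mulVec σ.toRingHom (B : Matrix (Fin n) (Fin n) F) v i
    rw [e, Matrix.dotProduct_mulVec, ← Matrix.mulVec_transpose, Matrix.mulVec_mulVec]
    have h' := congrArg Matrix.transpose h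
    rw [Matrix.transpose_mul, Matrix.transpose_transpose, Matrix.transpose_one] at h'
    rw [h', Matrix.one_mulVec]

theorem gf_centralizer (hn : 3 ≤ n) (σ : F ≃+* F) (hσ : orderOf σ = 2) (q : ℕ) (hq : ∀ x, σ x = x ^ q) :
    Nonempty (↥(Cfsg.inndiagPSL n F ⊓ Subgroup.centralizer {semiAut (1 : GL (Fin n) F) σ * itAut}) ≃*
      Cfsg.PGU n F q) := by
  have hinv := sigma_sq_of_orderOf hσ
  let Φ : Cfsg.GU n F q →* ↥(Cfsg.inndiagPSL n F ⊓ Subgroup.centralizer {semiAut (1 : GL (Fin n) F) σ * itAut}) :=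
    MonoidHom.codRestrict (MonoidHom.mk' (fun B : Cfsg.GU n F q => semiAut (B : GL (Fin n) F) (RingEquiv.refl F))
      (fun B C => (refl_mul _ _).symm)) _ (fun B => ⟨semi_mem_inndiag _,
        Subgroup.mem_centralizer_singleton_iff.2 ((gf_commute_iff hn _ σ hinv).2
          ⟨1, map_one σ, by rw [Units.val_one, one_smul]; exact (gu_mem_iff σ q hq hinv _).1 B.2⟩)⟩)
  have hΦ : Function.Surjective Φ := by
    rintro ⟨y, hy1, hy2⟩
    obtain ⟨A, rfl⟩ := (inndiag_iff_mem y).1 hy1
    obtain ⟨m, B, rfl, hB⟩ := gf_commute_unitary hn A σ hσ (Subgroup.mem_centralizer_singleton_iff.1 hy2)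
    exact ⟨⟨B, (gu_mem_iff σ q hq hinv _).2 hB⟩, Subtype.ext (semiAut_scl_mul m B _).symm⟩
  have hker : Φ.ker = (Cfsg.Geo.scalars (Fin n) F).subgroupOf (Cfsg.GU n F q) := by
    ext B
    rw [MonoidHom.mem_ker, Subtype.ext_iff, Subgroup.mem_subgroupOf, Cfsg.Geo.mem_scalars_iff]
    show semiAut (B : GL (Fin n) F) _ = 1 ↔ _
    constructor
    · intro h; exact (semi_eq_one (by omega) h).2
    · rintro ⟨c, hc⟩
      rw [show (B : GL (Fin n) F) = scl c from Units.ext (by rw [hc, scl_coe])]
      exact semiAut_scl c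
  exact ⟨((QuotientGroup.quotientMulEquivOfEq hker.symm).trans
    (QuotientGroup.quotientKerEquivOfSurjective Φ hΦ)).symm⟩

theorem gf_split (hn : 3 ≤ n) (σ : F ≃+* F) (hσ : orderOf σ = 2) :
    Cfsg.splitClassCount (Cfsg.inndiagPSL n F) (Cfsg.Inn PSLn) (semiAut (1 : GL (Fin n) F) σ * itAut) =
      Nat.gcd n (Nat.card (fixField σ) - 1) := by
  classical
  have hinv := sigma_sq_of_orderOf hσ
  let N : Fˣ →* Fˣ := (MonoidHom.id Fˣ) * Units.map σ.toRingHom.toMonoidHom
  have hNapp : ∀ x : Fˣ, ((N x : Fˣ) : F) = x * σ x := fun x => rfl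
  rw [split_count (by omega : 2 ≤ n) _ ((powMonoidHom n : Fˣ →* Fˣ).range ⊔ N.ker) ?_ ?_, index_sup]
  · congr 1
    rw [Subgroup.index_ker]
    have e : (N.range : Subgroup Fˣ) = (Units.map (fixField σ).subtype.toMonoidHom).range := by
      ext y
      constructor
      · rintro ⟨x, rfl⟩
        have hm : ((N x : Fˣ) : F) ∈ fixField σ := by rw [mem_fixField, hNapp, map_mul, hinv, mul_comm]
        exact ⟨Units.mk0 ⟨_, hm⟩ (fun h0 => (N x).ne_zero (congrArg Subtype.val h0)), Units.ext rfl⟩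
      · rintro ⟨z, rfl⟩
        obtain ⟨m, hm⟩ := exists_nrm σ hσ (by omega) ((z : fixField σ) : F) (z : fixField σ).2
        have hm0 : m ≠ 0 := fun h0 => z.ne_zero (Subtype.ext (by rw [← hm, h0]; simp [nrm]))
        refine ⟨Units.mk0 m hm0, Units.ext ?_⟩
        rw [hNapp]
        simpa [nrm] using hm
    rw [e, ← Nat.card_congr (MonoidHom.ofInjective (f := Units.map (fixField σ).subtype.toMonoidHom)
      (Units.map_injective Subtype.val_injective)).toEquiv, Nat.card_units]
  · intro A hA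
    obtain ⟨m, B, rfl, hB⟩ := gf_commute_unitary hn A σ hσ hA
    rw [map_mul]
    refine Subgroup.mul_mem_sup ⟨m, Units.ext ?_⟩ ?_
    · rw [Matrix.GeneralLinearGroup.val_det_apply, scl_coe, Matrix.det_smul, Matrix.det_one, mul_one, Fintype.card_fin]
      rfl
    · rw [MonoidHom.mem_ker]
      refine Units.ext ?_
      rw [hNapp, Matrix.GeneralLinearGroup.val_det_apply]
      have h := congrArg Matrix.det hB
      rw [Matrix.det_mul, Matrix.det_transpose, Matrix.det_one] at h
      have h' : σ (B : Matrix (Fin n) (Fin n) F).det = ((B : Matrix (Fin n) (Fin n) F).map σ).det :=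
        RingHom.map_det σ.toRingHom _
      rw [h', mul_comm]
      exact h
  · intro s hs
    obtain ⟨_, ⟨u, rfl⟩, k, hk, rfl⟩ := Subgroup.mem_sup.1 hs
    refine ⟨dg (by omega : 1 ≤ n) k, u, (gf_commute_iff hn _ σ hinv).2 ⟨1, map_one σ, ?_⟩, ?_⟩
    · show (((Matrix.diagonal (Function.update (1 : Fin n → F) ⟨0, by omega⟩ (k : F)))).map σ).transpose *
        Matrix.diagonal (Function.update (1 : Fin n → F) ⟨0, by omega⟩ (k : F)) = _
      have hk' : (k : F) * σ k = 1 := congrArg Units.val hk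
      rw [Matrix.diagonal_map (map_zero σ), Matrix.diagonal_transpose, Matrix.diagonal_mul_diagonal, Units.val_one,
        one_smul, ← Matrix.diagonal_one]
      congr 1
      funext i
      rcases eq_or_ne i ⟨0, by omega⟩ with rfl | h
      · simp [mul_comm (σ (k : F)), hk']
      · simp [h]
    · rw [det_dg, mul_comm]; rfl

end CfsgLib.KnownC.AutPSL
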