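import Cfsg.Agent.Lib.KnownC.AutPSL.Outer

set_option autoImplicit false
set_option linter.unusedSectionVars false

/-! Centraliser and class splitting of a field automorphism. -/

namespace CfsgLib.KnownC.AutPSL

open Matrix

variable {F : Type*} [Field F] {n : ℕ}

local notation "SLn" => Matrix.SpecialLinearGroup (Fin n) F
local notation "PSLn" => Matrix.ProjectiveSpecialLinearGroup (Fin n) F

/-- The fixed field of an automorphism. -/
def fixField (σ : F ≃+* F) : Subfield F := RingHom.eqLocusField σ.toRingHom (RingHom.id F)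

theorem mem_fixField {σ : F ≃+* F} {x : F} : x ∈ fixField σ ↔ σ x = x := Iff.rfl

theorem map_fix {σ : F ≃+* F} (B : GL (Fin n) (fixField σ)) :
    Matrix.GeneralLinearGroup.map σ.toRingHom (Matrix.GeneralLinearGroup.map (fixField σ).subtype B) =
      Matrix.GeneralLinearGroup.map (fixField σ).subtype B :=
  Units.ext (Matrix.ext fun i j => ((B : Matrix (Fin n) (Fin n) (fixField σ)) i j).2)

theorem std_conj (A : GL (Fin n) F) (σ : F ≃+* F) :
    semiAut A (RingEquiv.refl F) * semiAut 1 σ = semiAut A σ ∧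
      semiAut 1 σ * semiAut A (RingEquiv.refl F) = semiAut (Matrix.GeneralLinearGroup.map σ.toRingHom A) σ := by
  rw [semiAut_mul, semiAut_mul, map_one, mul_one, one_mul]
  exact ⟨rfl, rfl⟩

variable [Fintype F]

theorem card_fixField {p f r : ℕ} [Fact p.Prime] (hF : Fintype.card F = p ^ f) (σ : F ≃+* F)
    (hσ : orderOf σ = r) (hr : 1 ≤ r) : r ∣ f ∧ Nat.card (fixField σ) = p ^ (f / r) := by
  classical
  obtain ⟨e⟩ := ringAut_cyclic (F := F) hF
  haveI : Finite (F ≃+* F) := Finite.of_injective (fun σ : F ≃+* F => (σ : F → F)) DFunLike.coe_injective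
  have hrf : r ∣ f := by
    have h := orderOf_dvd_natCard σ
    rw [Nat.card_congr e.toEquiv, hσ, Nat.card_congr Multiplicative.toAdd, Nat.card_zmod] at h
    exact h
  refine ⟨hrf, ?_⟩
  let G := Subgroup.zpowers σ
  letI : Fintype G := Fintype.ofFinite G
  have hfix : ∀ x : F, x ∈ FixedPoints.subfield G F ↔ x ∈ fixField σ := fun x => by
    constructor
    · intro h; exact h ⟨σ, Subgroup.mem_zpowers σ⟩
    · intro h g
      obtain ⟨k, hk⟩ : ∃ k : ℕ, σ ^ k = g.1 := mem_powers_iff_mem_zpowers.2 g.2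
      show g.1 x = x
      rw [← hk]
      clear hk
      induction k with
      | zero => rfl
      | succ k ih => rw [pow_succ', RingAut.mul_apply, ih]; exact h
  have hrank := FixedPoints.finrank_eq_card G F
  rw [← Nat.card_eq_fintype_card, Nat.card_zpowers, hσ] at hrank
  have hcard : Nat.card F = Nat.card (FixedPoints.subfield G F) ^ r := by
    rw [Module.natCard_eq_pow_finrank (K := FixedPoints.subfield G F) (V := F), hrank]
  rw [Nat.card_congr (Equiv.subtypeEquivRight hfix), Nat.card_eq_fintype_card, hF, ← Nat.mul_div_cancel' hrf,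
    mul_comm, pow_mul] at hcard
  have := Nat.pow_left_injective (by omega : r ≠ 0) hcard.symm
  rw [this]

/-- An element commutes with the standard field automorphism exactly when it is defined over the fixed field. -/
theorem commute_iff (hn : 2 ≤ n) (A : GL (Fin n) F) (σ : F ≃+* F) {r : ℕ} (hσ : orderOf σ = r) (hr : 1 ≤ r) :
    semiAut A (RingEquiv.refl F) * semiAut 1 σ = semiAut 1 σ * semiAut A (RingEquiv.refl F) ↔
      ∃ (B : GL (Fin n) (fixField σ)) (c : Fˣ), A = scl c * Matrix.GeneralLinearGroup.map (fixField σ).subtype B := by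
  rw [(std_conj A σ).1, (std_conj A σ).2, semi_eq_iff hn]
  constructor
  · rintro ⟨-, c, hc⟩
    have hnc : nrm σ r (c : F) = 1 := by
      have hA : ∀ k (u : Fˣ), (u : F) = nrm σ k c → A = scl u * Matrix.GeneralLinearGroup.map (σ ^ k).toRingHom A := by
        intro k
        induction k with
        | zero =>
          intro u hu
          rw [show u = 1 from Units.ext hu, scl_one, one_mul]
          exact Units.ext (Matrix.ext fun _ _ => rfl)
        | succ k ih =>
          intro u hu
          have hne : nrm σ k (c : F) ≠ 0 := fun h0 => u.ne_zero (by rw [hu, nrm, h0, map_zero, mul_zero])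
          have h1 := ih (Units.mk0 _ hne) rfl
          have hu' : u = c * Units.map σ.toRingHom.toMonoidHom (Units.mk0 _ hne) := Units.ext hu
          conv_lhs => rw [hc, h1]
          rw [map_mul, map_scl, hu', scl_mul, mul_assoc, pow_succ']
          rfl
      have hne : nrm σ r (c : F) ≠ 0 := by
        have key : ∀ k, nrm σ k (c : F) ≠ 0 := fun k => by
          induction k with
          | zero => simp [nrm]
          | succ k ih => simp [nrm, ih, c.ne_zero]
        exact key r
      have h1 := hA r (Units.mk0 _ hne) rfl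
      have hr1 : σ ^ r = 1 := hσ ▸ pow_orderOf_eq_one σ
      rw [hr1, show (1 : F ≃+* F) = RingEquiv.refl F from rfl, map_refl_eq] at h1
      have h2 := scl_injective (n := n) (by omega) ((mul_eq_right.1 h1.symm).trans scl_one.symm)
      exact congrArg Units.val h2
    obtain ⟨h, h0, hh⟩ := hilbert90 σ hσ hr (c : F) hnc
    set u := Units.mk0 h h0
    have hu : Units.map σ.toRingHom.toMonoidHom u = c⁻¹ * u := by
      rw [eq_inv_mul_iff_mul_eq]; exact Units.ext hh
    have hfix : Matrix.GeneralLinearGroup.map σ.toRingHom (scl u⁻¹ * A) = scl u⁻¹ * A := by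
      rw [map_mul, map_scl, map_inv, hu, _root_.mul_inv_rev, inv_inv, scl_mul, mul_assoc, ← hc]
    have hfix' : Matrix.GeneralLinearGroup.map σ.toRingHom (scl u⁻¹ * A)⁻¹ = (scl u⁻¹ * A)⁻¹ := by
      rw [map_inv, hfix]
    let toK : (G : GL (Fin n) F) → Matrix.GeneralLinearGroup.map σ.toRingHom G = G →
        Matrix (Fin n) (Fin n) (fixField σ) := fun G hG =>
      Matrix.of fun i j => ⟨(G : Matrix (Fin n) (Fin n) F) i j,
        congrFun (congrFun (congrArg (fun g : GL (Fin n) F => (g : Matrix (Fin n) (Fin n) F)) hG) i) j⟩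
    have hinj : Function.Injective (fun M : Matrix (Fin n) (Fin n) (fixField σ) => M.map (fixField σ).subtype) :=
      Matrix.map_injective Subtype.val_injective
    refine ⟨⟨toK _ hfix, toK _ hfix', hinj ?_, hinj ?_⟩, u, ?_⟩
    · simp only [Matrix.map_mul, Matrix.map_one _ (map_zero _) (map_one _)]
      exact congrArg Units.val (mul_inv_cancel (scl u⁻¹ * A))
    · simp only [Matrix.map_mul, Matrix.map_one _ (map_zero _) (map_one _)]
      exact congrArg Units.val (inv_mul_cancel (scl u⁻¹ * A))
    · have : scl u⁻¹ * A = Matrix.GeneralLinearGroup.map (fixField σ).subtype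
          ⟨toK _ hfix, toK _ hfix', hinj (by
            simp only [Matrix.map_mul, Matrix.map_one _ (map_zero _) (map_one _)]
            exact congrArg Units.val (mul_inv_cancel (scl u⁻¹ * A))), hinj (by
            simp only [Matrix.map_mul, Matrix.map_one _ (map_zero _) (map_one _)]
            exact congrArg Units.val (inv_mul_cancel (scl u⁻¹ * A)))⟩ := Units.ext rfl
      rw [← this, ← mul_assoc, ← scl_mul, mul_inv_cancel, scl_one, one_mul]
  · rintro ⟨B, c, rfl⟩
    refine ⟨rfl, c * (Units.map σ.toRingHom.toMonoidHom c)⁻¹, ?_⟩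
    rw [map_mul, map_scl, map_fix, ← mul_assoc, ← scl_mul, inv_mul_cancel_right]

theorem scl_subtype {σ : F ≃+* F} (c : (fixField σ)ˣ) :
    Matrix.GeneralLinearGroup.map (fixField σ).subtype (scl c : GL (Fin n) (fixField σ)) =
      scl (Units.map (fixField σ).subtype.toMonoidHom c) := by
  refine Units.ext ?_
  rw [scl_coe]
  ext i j
  show (fixField σ).subtype (((scl c : GL (Fin n) (fixField σ)) : Matrix (Fin n) (Fin n) (fixField σ)) i j) = _
  rw [scl_coe]
  simp [Matrix.one_apply, apply_ite (fixField σ).subtype]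

theorem centralizer_std (hn : 2 ≤ n) (σ : F ≃+* F) {r : ℕ} (hσ : orderOf σ = r) (hr : 1 ≤ r) :
    Nonempty (↥(Cfsg.inndiagPSL n F ⊓ Subgroup.centralizer {semiAut (1 : GL (Fin n) F) σ}) ≃*
      Matrix.ProjGenLinGroup (Fin n) (fixField σ)) := by
  let ι := Matrix.GeneralLinearGroup.map (n := Fin n) (fixField σ).subtype
  let Φ : GL (Fin n) (fixField σ) →* ↥(Cfsg.inndiagPSL n F ⊓ Subgroup.centralizer {semiAut (1 : GL (Fin n) F) σ}) :=
    MonoidHom.codRestrict (MonoidHom.mk' (fun B => semiAut (ι B) (RingEquiv.refl F)) (fun B C => by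
      rw [semiAut_mul, map_mul, map_refl_eq]; rfl)) _ (fun B => ⟨semi_mem_inndiag _, by
        exact Subgroup.mem_centralizer_singleton_iff.2
          ((commute_iff hn _ σ hσ hr).2 ⟨B, 1, by rw [scl_one, one_mul]⟩)⟩)
  have hΦ : Function.Surjective Φ := by
    rintro ⟨y, hy1, hy2⟩
    obtain ⟨A, rfl⟩ := (inndiag_iff_mem y).1 hy1
    obtain ⟨B, c, hA⟩ := (commute_iff hn A σ hσ hr).1 (Subgroup.mem_centralizer_singleton_iff.1 hy2)
    exact ⟨B, Subtype.ext (by show semiAut (ι B) _ = semiAut A _; rw [hA, semiAut_scl_mul])⟩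
  have hker : Φ.ker = Subgroup.center (GL (Fin n) (fixField σ)) := by
    ext B
    rw [MonoidHom.mem_ker, Subtype.ext_iff, Matrix.GeneralLinearGroup.center_eq_range_scalar]
    show semiAut (ι B) _ = 1 ↔ _
    constructor
    · intro h
      obtain ⟨-, c, hc⟩ := semi_eq_one hn h
      have hc' : (c : F) ∈ fixField σ := by
        have := congrFun (congrFun hc ⟨0, by omega⟩) ⟨0, by omega⟩
        simp only [Matrix.smul_apply, Matrix.one_apply_eq, smul_eq_mul, mul_one] at this
        rw [← this]
        exact ((B : Matrix (Fin n) (Fin n) (fixField σ)) _ _).2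
      refine ⟨Units.mk0 ⟨c, hc'⟩ (fun h0 => c.ne_zero (congrArg Subtype.val h0)), Units.ext ?_⟩
      refine Matrix.map_injective (f := (fixField σ).subtype) Subtype.val_injective ?_
      show _ = (ι B : Matrix (Fin n) (Fin n) F)
      rw [hc]
      ext i j
      rcases eq_or_ne i j with rfl | hij <;> simp [*, Matrix.one_apply]
    · rintro ⟨c, rfl⟩
      show semiAut (ι (scl c)) _ = 1
      rw [show ι (scl c) = scl (Units.map (fixField σ).subtype.toMonoidHom c) from scl_subtype c]
      exact semiAut_scl _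
  exact ⟨((QuotientGroup.quotientMulEquivOfEq hker.symm).trans (QuotientGroup.quotientKerEquivOfSurjective Φ hΦ)).symm⟩

theorem index_sup (n : ℕ) (K : Subgroup Fˣ) : ((powMonoidHom n : Fˣ →* Fˣ).range ⊔ K).index = Nat.gcd n K.index := by
  have h : ((powMonoidHom (α := Fˣ ⧸ K) n).range).comap (QuotientGroup.mk' K) =
      (powMonoidHom n : Fˣ →* Fˣ).range ⊔ K := by
    ext x
    rw [Subgroup.mem_comap]
    constructor
    · rintro ⟨q, hq⟩
      induction q using QuotientGroup.induction_on with
      | _ y =>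
        have hq' : (QuotientGroup.mk (y ^ n) : Fˣ ⧸ K) = QuotientGroup.mk x := hq
        rw [QuotientGroup.eq] at hq'
        exact Subgroup.mem_sup.2 ⟨_, ⟨y, rfl⟩, _, hq', by simp⟩
    · intro hx
      obtain ⟨_, ⟨y, rfl⟩, k, hk, rfl⟩ := Subgroup.mem_sup.1 hx
      refine ⟨QuotientGroup.mk y, ?_⟩
      show (QuotientGroup.mk (y ^ n) : Fˣ ⧸ K) = QuotientGroup.mk _
      rw [QuotientGroup.eq]
      simpa using hk
  have : IsCyclic (Fˣ ⧸ K) := isCyclic_of_surjective _ (QuotientGroup.mk'_surjective K)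
  rw [← h, Subgroup.index_comap_of_surjective _ (QuotientGroup.mk'_surjective K), IsCyclic.index_powMonoidHom_range,
    ← Subgroup.index_eq_card, Nat.gcd_comm]

theorem split_count_std (hn : 2 ≤ n) (σ : F ≃+* F) {r : ℕ} (hσ : orderOf σ = r) (hr : 1 ≤ r) :
    Cfsg.splitClassCount (Cfsg.inndiagPSL n F) (Cfsg.Inn PSLn) (semiAut (1 : GL (Fin n) F) σ) =
      Nat.gcd n ((Fintype.card F - 1) / (Nat.card (fixField σ) - 1)) := by
  classical
  set x0 := semiAut (1 : GL (Fin n) F) σ
  let K : Subgroup Fˣ := (Units.map (fixField σ).subtype.toMonoidHom).range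
  let S : Subgroup Fˣ := (powMonoidHom n : Fˣ →* Fˣ).range ⊔ K
  let D : GL (Fin n) F →* Fˣ ⧸ S := (QuotientGroup.mk' S).comp Matrix.GeneralLinearGroup.det
  let cj : GL (Fin n) F → MulAut PSLn := fun A =>
    semiAut A (RingEquiv.refl F) * x0 * (semiAut A (RingEquiv.refl F))⁻¹
  have hdetscl : ∀ c : Fˣ, D (scl c) = 1 := fun c => by
    show (QuotientGroup.mk _ : Fˣ ⧸ S) = 1
    rw [QuotientGroup.eq_one_iff]
    refine Subgroup.mem_sup_left ⟨c, Units.ext ?_⟩
    rw [Matrix.GeneralLinearGroup.val_det_apply, scl_coe, Matrix.det_smul, Matrix.det_one, mul_one, Fintype.card_fin]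
    rfl
  have hdetK : ∀ B, D (Matrix.GeneralLinearGroup.map (fixField σ).subtype B) = 1 := fun B => by
    show (QuotientGroup.mk _ : Fˣ ⧸ S) = 1
    rw [QuotientGroup.eq_one_iff]
    refine Subgroup.mem_sup_right ⟨Matrix.GeneralLinearGroup.det B, Units.ext ?_⟩
    exact RingHom.map_det (fixField σ).subtype (B : Matrix (Fin n) (Fin n) (fixField σ))
  have hmul : ∀ A B, semiAut A (RingEquiv.refl F) * semiAut B (RingEquiv.refl F) =
      semiAut (A * B : GL (Fin n) F) (RingEquiv.refl F) := fun A B => by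
    rw [semiAut_mul, map_refl_eq]; rfl
  have hinv : ∀ A, (semiAut A (RingEquiv.refl F))⁻¹ = semiAut (A⁻¹ : GL (Fin n) F) (RingEquiv.refl F) := fun A =>
    inv_eq_of_mul_eq_one_right (by rw [hmul, mul_inv_cancel, semiAut_one])
  -- equal conjugates have equal classes
  have hwd : ∀ A B, cj A = cj B → D A = D B := fun A B h => by
    have hc : semiAut (A⁻¹ * B) (RingEquiv.refl F) * x0 = x0 * semiAut (A⁻¹ * B) (RingEquiv.refl F) := by
      rw [← hmul, ← hinv]
      simp only [cj] at h
      calc _ = (semiAut A (RingEquiv.refl F))⁻¹ * (semiAut B (RingEquiv.refl F) * x0 *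
            (semiAut B (RingEquiv.refl F))⁻¹) * semiAut B (RingEquiv.refl F) := by group
        _ = _ := by rw [← h]; group
    obtain ⟨C, c, hC⟩ := (commute_iff hn _ σ hσ hr).1 hc
    have := congrArg D hC
    rw [map_mul, map_mul, hdetscl, hdetK, map_inv, one_mul, inv_mul_eq_one] at this
    exact this
  let P : {y // Cfsg.IsConjUnder (Cfsg.inndiagPSL n F) x0 y} → Prop := fun _ => True
  have hex : ∀ y : {y // Cfsg.IsConjUnder (Cfsg.inndiagPSL n F) x0 y}, ∃ A, y.1 = cj A := fun y => by
    obtain ⟨h, hh, e⟩ := y.2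
    obtain ⟨A, rfl⟩ := (inndiag_iff_mem h).1 hh
    exact ⟨A, e⟩
  choose rep hrep using hex
  have hT : ∀ A B, D A = D B → ∃ t ∈ Cfsg.Inn PSLn, cj B = t * cj A * t⁻¹ := fun A B h => by
    have hm : (Matrix.GeneralLinearGroup.det A)⁻¹ * Matrix.GeneralLinearGroup.det B ∈ S := QuotientGroup.eq.1 h
    obtain ⟨_, ⟨u, rfl⟩, _, ⟨k, rfl⟩, e⟩ := Subgroup.mem_sup.1 hm
    set C := Matrix.GeneralLinearGroup.map (fixField σ).subtype (dg (by omega : 1 ≤ n) k)
    have hC : Matrix.GeneralLinearGroup.det C = Units.map (fixField σ).subtype.toMonoidHom k := by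
      refine Units.ext ?_
      have h2 := RingHom.map_det (fixField σ).subtype
        ((dg (by omega : 1 ≤ n) k : GL (Fin n) (fixField σ)) : Matrix (Fin n) (Fin n) (fixField σ))
      rw [← Matrix.GeneralLinearGroup.val_det_apply, det_dg] at h2
      exact h2.symm
    refine ⟨semiAut (B * C⁻¹ * A⁻¹) (RingEquiv.refl F), ?_, ?_⟩
    · rw [mem_inn_iff hn]
      refine ⟨u, ?_⟩
      rw [map_mul, map_mul, map_inv, map_inv, hC]
      have e' : u ^ n * Units.map (fixField σ).subtype.toMonoidHom k =
        (Matrix.GeneralLinearGroup.det A)⁻¹ * Matrix.GeneralLinearGroup.det B := e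
      rw [mul_right_comm, eq_mul_inv_iff_mul_eq, e', mul_comm]
    · have hc : semiAut C (RingEquiv.refl F) * x0 = x0 * semiAut C (RingEquiv.refl F) :=
        (commute_iff hn _ σ hσ hr).2 ⟨dg (by omega : 1 ≤ n) k, 1, by rw [scl_one, one_mul]⟩
      have hx : (semiAut C (RingEquiv.refl F))⁻¹ * x0 * semiAut C (RingEquiv.refl F) = x0 := by
        rw [mul_assoc, ← hc, inv_mul_cancel_left]
      show semiAut B _ * x0 * (semiAut B _)⁻¹ = _
      simp only [cj, ← hmul, ← hinv]
      conv_lhs => rw [← hx]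
      group
  let Λ : Quot (fun y z : {y // Cfsg.IsConjUnder (Cfsg.inndiagPSL n F) x0 y} => Cfsg.IsConjUnder (Cfsg.Inn PSLn) y.1 z.1) →
      Fˣ ⧸ S := Quot.lift (fun y => D (rep y)) (fun y z hyz => by
    obtain ⟨t, ⟨g, rfl⟩, e⟩ := hyz
    induction g using QuotientGroup.induction_on with
    | _ s =>
      rw [conj_mk, hrep y, hrep z] at e
      have : cj (rep z) = cj (Matrix.SpecialLinearGroup.toGL s * rep y) := by
        rw [e]; simp only [cj, ← hmul]; group
      rw [hwd _ _ this, map_mul]
      have hs : D (Matrix.SpecialLinearGroup.toGL s) = 1 := by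
        show (QuotientGroup.mk _ : Fˣ ⧸ S) = 1
        rw [show Matrix.GeneralLinearGroup.det (Matrix.SpecialLinearGroup.toGL s) = 1 from Units.ext s.2]
        rfl
      rw [hs, one_mul])
  have hbij : Function.Bijective Λ := by
    constructor
    · rintro ⟨y⟩ ⟨z⟩ h
      obtain ⟨t, ht, e⟩ := hT _ _ h
      exact Quot.sound ⟨t, ht, by rw [hrep y, hrep z]; exact e⟩
    · intro q
      induction q using QuotientGroup.induction_on with
      | _ u =>
        let y : {y // Cfsg.IsConjUnder (Cfsg.inndiagPSL n F) x0 y} :=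
          ⟨cj (dg (by omega : 1 ≤ n) u), _, semi_mem_inndiag _, rfl⟩
        refine ⟨Quot.mk _ y, ?_⟩
        show D (rep y) = _
        rw [← hwd _ _ (hrep y)]
        show (QuotientGroup.mk _ : Fˣ ⧸ S) = _
        rw [det_dg]
  show Nat.card (Quot _) = _
  rw [Nat.card_congr (Equiv.ofBijective Λ hbij), ← Subgroup.index_eq_card, index_sup]
  congr 1
  have hK : Nat.card K = Nat.card (fixField σ) - 1 := by
    rw [← Nat.card_congr (MonoidHom.ofInjective (f := Units.map (fixField σ).subtype.toMonoidHom)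
      (Units.map_injective Subtype.val_injective)).toEquiv, Nat.card_units]
  have h1 := Subgroup.card_mul_index K
  rw [Nat.card_units, hK, Nat.card_eq_fintype_card (α := F)] at h1
  have h2 : 1 < Nat.card (fixField σ) := Finite.one_lt_card
  rw [← h1, Nat.mul_div_cancel_left _ (by omega)]

end CfsgLib.KnownC.AutPSL
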