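import Cfsg.Agent.Lib.KnownC.AutPSL.Unique
import Mathlib

set_option autoImplicit false
set_option linter.unusedSectionVars false

/-! Descent for semilinear maps of finite order (Lang's theorem for `GL_n`). -/

namespace CfsgLib.KnownC.AutPSL

open Matrix

variable {F : Type*} [Field F] {n : ℕ}

/-- The `k`-th twisted power `A σ(A) ⋯ σ^(k-1)(A)`. -/
def semiPow (A : GL (Fin n) F) (σ : F ≃+* F) : ℕ → GL (Fin n) F
  | 0 => 1
  | k + 1 => A * Matrix.GeneralLinearGroup.map σ.toRingHom (semiPow A σ k)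

theorem semiAut_pow (A : GL (Fin n) F) (σ : F ≃+* F) (k : ℕ) :
    semiAut A σ ^ k = semiAut (semiPow A σ k) (σ ^ k) := by
  induction k with
  | zero => rw [pow_zero, pow_zero]; exact semiAut_one.symm
  | succ k ih => rw [pow_succ', ih, semiAut_mul, pow_succ']; rfl

theorem semiVec_iterate (A : GL (Fin n) F) (σ : F ≃+* F) (k : ℕ) (v : Fin n → F) :
    (semiVec A σ)^[k] v = semiVec (semiPow A σ k) (σ ^ k) v := by
  induction k with
  | zero => rw [Function.iterate_zero_apply, semiVec_apply]; simp [semiPow]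
  | succ k ih =>
    rw [Function.iterate_succ_apply', ih, semiVec_apply, semiVec_apply, semiVec_apply]
    conv_rhs => rw [semiPow, Units.val_mul, ← Matrix.mulVec_mulVec]
    congr 1
    funext i
    rw [pow_succ']
    exact RingHom.map_mulVec σ.toRingHom _ _ i

theorem semiVec_iterate_smul (A : GL (Fin n) F) (σ : F ≃+* F) (k : ℕ) (c : F) (v : Fin n → F) :
    (semiVec A σ)^[k] (c • v) = (σ ^ k) c • (semiVec A σ)^[k] v := by
  rw [semiVec_iterate, semiVec_iterate]
  exact map_smulₛₗ _ _ _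

theorem pow_injective_of_lt {σ : F ≃+* F} {r : ℕ} (hσ : orderOf σ = r) :
    Function.Injective (fun i : Fin r => ((σ ^ (i : ℕ) : F ≃+* F).toRingHom.toMonoidHom : F →* F)) := fun i j h => by
  refine Fin.ext (pow_injOn_Iio_orderOf (x := σ) (by simp [hσ, i.2]) (by simp [hσ, j.2]) ?_)
  exact RingEquiv.ext fun x => DFunLike.congr_fun h x

/-- Fixed vectors of a semilinear map of order equal to the order of `σ` span. -/
theorem span_fixed (A : GL (Fin n) F) (σ : F ≃+* F) {r : ℕ} (hσ : orderOf σ = r) (hr : 1 ≤ r)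
    (hA : semiPow A σ r = 1) : Submodule.span F {v | semiVec A σ v = v} = ⊤ := by
  set S : Set (Fin n → F) := {v | semiVec A σ v = v}
  have hper : ∀ v, (semiVec A σ)^[r] v = v := fun v => by
    rw [semiVec_iterate, hA, ← hσ, pow_orderOf_eq_one, semiVec_apply]
    simp
  by_contra hne
  obtain ⟨x, -, hx⟩ := SetLike.exists_of_lt (lt_top_iff_ne_top.2 hne)
  obtain ⟨φ, hφx, hφ⟩ := exists_dual hx
  have hsum : ∀ c : F, ∑ i : Fin r, (σ ^ (i : ℕ)) c * (φ ⬝ᵥ (semiVec A σ)^[(i : ℕ)] x) = 0 := by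
    intro c
    set g : ℕ → (Fin n → F) := fun i => (semiVec A σ)^[i] (c • x)
    have hmem : (∑ i ∈ Finset.range r, g i) ∈ S := by
      show semiVec A σ _ = _
      rw [map_sum]
      have e1 : ∀ i, semiVec A σ (g i) = g (i + 1) := fun i => (Function.iterate_succ_apply' _ _ _).symm
      simp only [e1]
      obtain ⟨m, rfl⟩ : ∃ m, r = m + 1 := ⟨r - 1, by omega⟩
      rw [Finset.sum_range_succ, Finset.sum_range_succ' g]
      congr 1
      exact hper _
    have h0 := hφ _ (Submodule.subset_span hmem)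
    rw [dotProduct_sum, Finset.sum_range] at h0
    refine (Finset.sum_congr rfl fun i _ => ?_).trans h0
    show _ = φ ⬝ᵥ (semiVec A σ)^[(i : ℕ)] (c • x)
    rw [semiVec_iterate_smul, dotProduct_smul, smul_eq_mul]
  have hli := (linearIndependent_monoidHom F F).comp _ (pow_injective_of_lt hσ)
  have := Fintype.linearIndependent_iff.1 hli (fun i => φ ⬝ᵥ (semiVec A σ)^[(i : ℕ)] x) (by
    funext c
    rw [Finset.sum_apply, Pi.zero_apply]
    simpa [mul_comm] using hsum c) ⟨0, by omega⟩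
  exact one_ne_zero (α := F) (by rw [← hφx]; exact this)

/-- Lang's theorem for `GL_n` and a field automorphism of finite order. -/
theorem exists_descent (A : GL (Fin n) F) (σ : F ≃+* F) {r : ℕ} (hσ : orderOf σ = r) (hr : 1 ≤ r)
    (hA : semiPow A σ r = 1) : ∃ h : GL (Fin n) F, A * Matrix.GeneralLinearGroup.map σ.toRingHom h = h := by
  obtain ⟨B, hBS, hBspan, hBli⟩ := exists_linearIndependent F {v : Fin n → F | semiVec A σ v = v}
  rw [span_fixed A σ hσ hr hA] at hBspan
  let b : Module.Basis B F (Fin n → F) := Module.Basis.mk hBli (by rw [Subtype.range_coe]; exact hBspan.ge)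
  haveI : Finite B := b.linearIndependent.finite
  let : Fintype B := Fintype.ofFinite B
  have hcard : Fintype.card B = Fintype.card (Fin n) := by
    rw [← Module.finrank_eq_card_basis b, Module.finrank_fintype_fun_eq_card]
  let e : Fin n ≃ B := (Fintype.equivOfCardEq hcard).symm
  let H : Matrix (Fin n) (Fin n) F := Matrix.of fun i j => (e j : Fin n → F) i
  have hH : IsUnit H := by
    rw [← Matrix.linearIndependent_cols_iff_isUnit]
    exact hBli.comp e e.injective
  obtain ⟨h, hh⟩ := hH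
  refine ⟨h, Units.ext ?_⟩
  rw [Units.val_mul]
  show (A : Matrix (Fin n) (Fin n) F) * (h : Matrix (Fin n) (Fin n) F).map σ = h
  rw [hh]
  ext i j
  exact congrFun (show semiVec A σ (e j : Fin n → F) = _ from hBS (e j).2) i

/-- The norm of an element for an automorphism. -/
def nrm (σ : F ≃+* F) : ℕ → F → F
  | 0, _ => 1
  | k + 1, x => x * σ (nrm σ k x)

theorem semiPow_scl_mul (c : Fˣ) (A : GL (Fin n) F) (σ : F ≃+* F) (k : ℕ) (u : Fˣ) (hu : (u : F) = nrm σ k c) :
    semiPow (scl c * A) σ k = scl u * semiPow A σ k := by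
  induction k generalizing u with
  | zero =>
    rw [show u = 1 from Units.ext hu, scl_one, one_mul]; rfl
  | succ k ih =>
    have hne : nrm σ k c ≠ 0 := fun h0 => u.ne_zero (by rw [hu, nrm, h0, map_zero, mul_zero])
    have h1 := ih (Units.mk0 _ hne) rfl
    have hu' : u = c * Units.map σ.toRingHom.toMonoidHom (Units.mk0 _ hne) := Units.ext hu
    rw [semiPow, h1, map_mul, map_scl, semiPow, hu', scl_mul, mul_assoc (scl c) A, ← mul_assoc A, ← scl_comm,
      mul_assoc, mul_assoc]

variable [Finite F]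

theorem nrm_mul (σ : F ≃+* F) (k : ℕ) (x y : F) : nrm σ k (x * y) = nrm σ k x * nrm σ k y := by
  induction k with
  | zero => simp [nrm]
  | succ k ih => simp only [nrm, ih, map_mul]; ring

theorem nrm_succ' (σ : F ≃+* F) (k : ℕ) (x : F) : nrm σ (k + 1) x = nrm σ k x * (σ ^ k) x := by
  induction k with
  | zero => simp [nrm]
  | succ k ih =>
    show x * σ (nrm σ (k + 1) x) = _
    conv_lhs => rw [ih]
    rw [map_mul, ← mul_assoc, pow_succ']
    rfl

theorem nrm_fixed (σ : F ≃+* F) {r : ℕ} (hσ : orderOf σ = r) (x : F) : σ (nrm σ r x) = nrm σ r x := by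
  rcases eq_or_ne x 0 with rfl | hx
  · rcases r with _ | m
    · simp [nrm]
    · simp [nrm]
  have h1 : nrm σ (r + 1) x = x * σ (nrm σ r x) := rfl
  rw [nrm_succ', ← hσ, pow_orderOf_eq_one, hσ, RingAut.one_apply, mul_comm] at h1
  exact (mul_left_cancel₀ hx h1).symm

theorem hilbert90 (σ : F ≃+* F) {r : ℕ} (hσ : orderOf σ = r) (hr : 1 ≤ r) (x : F) (hx : nrm σ r x = 1) :
    ∃ h : F, h ≠ 0 ∧ x * σ h = h := by
  have hx0 : x ≠ 0 := fun h0 => by
    obtain ⟨m, rfl⟩ : ∃ m, r = m + 1 := ⟨r - 1, by omega⟩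
    simp [nrm, h0] at hx
  set c : Fˣ := Units.mk0 x hx0
  have h0 : semiPow (scl c * 1 : GL (Fin 1) F) σ r = scl 1 * semiPow 1 σ r := semiPow_scl_mul c 1 σ r 1 hx.symm
  have h1 : ∀ k, semiPow (1 : GL (Fin 1) F) σ k = 1 := fun k => by
    induction k with
    | zero => rfl
    | succ k ih => rw [semiPow, ih, map_one, one_mul]
  rw [h1, scl_one, mul_one, mul_one] at h0
  obtain ⟨h, hh⟩ := exists_descent (scl c) σ hσ hr h0
  have hm := congrArg (fun g : GL (Fin 1) F => (g : Matrix (Fin 1) (Fin 1) F) 0 0) hh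
  refine ⟨(h : Matrix (Fin 1) (Fin 1) F) 0 0, fun hz => ?_, ?_⟩
  · have := (Matrix.isUnit_iff_isUnit_det _).1 h.isUnit
    rw [Matrix.det_fin_one, hz] at this
    exact not_isUnit_zero this
  · simpa [Units.val_mul, scl_coe, c] using hm

/-- The norm of a finite field is onto the fixed field. -/
theorem exists_nrm (σ : F ≃+* F) {r : ℕ} (hσ : orderOf σ = r) (hr : 1 ≤ r) (l : F) (hl : σ l = l) :
    ∃ m : F, nrm σ r m = l := by
  rcases eq_or_ne l 0 with rfl | hl0
  · exact ⟨0, by obtain ⟨k, rfl⟩ : ∃ k, r = k + 1 := ⟨r - 1, by omega⟩; simp [nrm]⟩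
  have hne : ∀ x : Fˣ, nrm σ r (x : F) ≠ 0 := fun x h0 => by
    have key : ∀ k, nrm σ k (x : F) ≠ 0 := fun k => by
      induction k with
      | zero => simp [nrm]
      | succ k ih => simp [nrm, ih]
    exact key r h0
  let N : Fˣ →* Fˣ := MonoidHom.mk' (fun x => Units.mk0 _ (hne x))
    (fun x y => Units.ext (nrm_mul σ r x y))
  let ψ : Fˣ →* Fˣ := MonoidHom.mk' (fun x => x * (Units.map σ.toRingHom.toMonoidHom x)⁻¹) (fun x y => by
    rw [map_mul, _root_.mul_inv_rev]; ac_rfl)
  have hker : N.ker ≤ ψ.range := by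
    intro x hx
    obtain ⟨h, h0, hh⟩ := hilbert90 σ hσ hr (x : F) (by simpa [N, Units.ext_iff] using hx)
    refine ⟨Units.mk0 h h0, ?_⟩
    show (Units.mk0 h h0 * (Units.map σ.toRingHom.toMonoidHom (Units.mk0 h h0))⁻¹ : Fˣ) = x
    rw [mul_inv_eq_iff_eq_mul]
    exact Units.ext hh.symm
  have hrange : N.range ≤ ψ.ker := by
    rintro _ ⟨x, rfl⟩
    show (N x * (Units.map σ.toRingHom.toMonoidHom (N x))⁻¹ : Fˣ) = 1
    rw [mul_inv_eq_one]
    exact Units.ext (nrm_fixed σ hσ x).symm
  have e1 := (Subgroup.card_eq_card_quotient_mul_card_subgroup N.ker)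
  have e2 := (Subgroup.card_eq_card_quotient_mul_card_subgroup ψ.ker)
  rw [Nat.card_congr (QuotientGroup.quotientKerEquivRange N).toEquiv] at e1
  rw [Nat.card_congr (QuotientGroup.quotientKerEquivRange ψ).toEquiv] at e2
  have h4 : Nat.card ψ.ker ≤ Nat.card N.range := by
    have h5 := Subgroup.card_le_of_le hker
    have h6 : 0 < Nat.card ψ.range := Nat.card_pos
    nlinarith [Subgroup.card_le_of_le hrange]
  have heq := Subgroup.eq_of_le_of_card_ge hrange h4
  obtain ⟨m, hm⟩ : Units.mk0 l hl0 ∈ N.range := by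
    rw [heq]
    show (Units.mk0 l hl0 * (Units.map σ.toRingHom.toMonoidHom (Units.mk0 l hl0))⁻¹ : Fˣ) = 1
    rw [mul_inv_eq_one]
    exact Units.ext hl.symm
  exact ⟨m, congrArg Units.val hm⟩

end CfsgLib.KnownC.AutPSL
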