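import Cfsg.Agent.Lib.KnownC.AutPSL.Points

set_option autoImplicit false
set_option linter.unusedSectionVars false

/-! Every automorphism of `PSL_n(q)` is semilinear, possibly times inverse transpose. -/

namespace CfsgLib.KnownC.AutPSL

open Projectivization Matrix MulAction

variable {F : Type*} [Field F] {n : ℕ}

local notation "SLn" => Matrix.SpecialLinearGroup (Fin n) F
local notation "PSLn" => Matrix.ProjectiveSpecialLinearGroup (Fin n) F

theorem submodule_smul (s : SLn) (P : Pt F n) :
    ((QuotientGroup.mk s : PSLn) • P).submodule = P.submodule.map (Matrix.toLin' (s : Matrix (Fin n) (Fin n) F)) := by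
  induction P using Projectivization.ind with
  | _ v hv => rw [psl_smul_mk, submodule_mk, submodule_mk, Submodule.map_span, Set.image_singleton]; rfl

theorem stabSub_point (P : Pt F n) : stabSub P.submodule = stabilizer PSLn P := by
  ext x
  induction x using QuotientGroup.induction_on with
  | _ s => rw [mk_mem_stabSub_iff, mem_stabilizer_iff, ← submodule_smul]; exact Projectivization.submodule_injective.eq_iff

theorem dual_unique {W : Submodule F (Fin n → F)} (hW : Module.finrank F W = n - 1) (hn : 1 ≤ n) :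
    ∃ a : Fin n → F, a ≠ 0 ∧ (∀ w, w ∈ W ↔ a ⬝ᵥ w = 0) ∧
      ∀ b : Fin n → F, (∀ w ∈ W, b ⬝ᵥ w = 0) → ∃ c : F, b = c • a := by
  obtain ⟨u, -, hu⟩ := SetLike.exists_of_lt (lt_top_iff_ne_top.2 (fun h : W = ⊤ => by
    rw [h, finrank_top, Module.finrank_fintype_fun_eq_card, Fintype.card_fin] at hW; omega))
  obtain ⟨a, hau, ha⟩ := exists_dual hu
  have htop : W ⊔ (F ∙ u) = ⊤ := by
    apply Submodule.eq_top_of_finrank_eq
    have hdisj : W ⊓ (F ∙ u) = ⊥ := by
      rw [Submodule.eq_bot_iff]
      rintro x ⟨hx, hxu⟩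
      obtain ⟨c, rfl⟩ := Submodule.mem_span_singleton.1 hxu
      by_contra h0
      exact hu ((W.smul_mem_iff (fun hc => h0 (by rw [hc, zero_smul]))).1 hx)
    have h := Submodule.finrank_sup_add_finrank_inf_eq W (F ∙ u)
    rw [hdisj, finrank_bot, hW, finrank_span_singleton (show u ≠ 0 from fun h0 => hu (by rw [h0]; exact W.zero_mem))] at h
    rw [Module.finrank_fintype_fun_eq_card, Fintype.card_fin]
    omega
  have hdec : ∀ x, ∃ w ∈ W, ∃ c : F, w + c • u = x := fun x => by
    obtain ⟨w, hw, z, hz, e⟩ := Submodule.mem_sup.1 (htop ▸ Submodule.mem_top : x ∈ W ⊔ (F ∙ u))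
    obtain ⟨c, rfl⟩ := Submodule.mem_span_singleton.1 hz
    exact ⟨w, hw, c, e⟩
  refine ⟨a, fun h => one_ne_zero (α := F) (by rw [← hau, h, zero_dotProduct]), fun w => ⟨ha w, fun h => ?_⟩, fun b hb => ?_⟩
  · obtain ⟨x, hx, c, rfl⟩ := hdec w
    rw [dotProduct_add, ha x hx, dotProduct_smul, hau, smul_eq_mul, mul_one, zero_add] at h
    rw [h, zero_smul, add_zero]; exact hx
  · refine ⟨b ⬝ᵥ u, ?_⟩
    have h : ∀ x, b ⬝ᵥ x = ((b ⬝ᵥ u) • a) ⬝ᵥ x := fun x => by
      obtain ⟨w, hw, c, rfl⟩ := hdec x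
      rw [dotProduct_add, dotProduct_add, hb w hw, smul_dotProduct, smul_dotProduct, ha w hw, smul_zero,
        dotProduct_smul, dotProduct_smul, hau, smul_eq_mul, smul_eq_mul, smul_eq_mul, mul_one, mul_comm]
    funext i
    have := h (Pi.single i 1)
    rwa [dotProduct_single, dotProduct_single, mul_one, mul_one] at this

theorem itAut_stab {W : Submodule F (Fin n → F)} (hW : Module.finrank F W = n - 1) (hn : 1 ≤ n) :
    ∃ Q : Pt F n, (stabSub W).map (itAut (F := F) (n := n)).toMonoidHom = stabilizer PSLn Q := by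
  obtain ⟨a, ha0, haW, hb⟩ := dual_unique hW hn
  refine ⟨Projectivization.mk F a ha0, ?_⟩
  ext x
  obtain ⟨y, rfl⟩ := (itAut (F := F) (n := n)).surjective x
  rw [Subgroup.mem_map_equiv, MulEquiv.symm_apply_apply]
  induction y using QuotientGroup.induction_on with
  | _ s =>
    show _ ↔ (QuotientGroup.mk (itSL s) : PSLn) ∈ _
    rw [mk_mem_stabSub_iff, mem_stabilizer_iff, psl_smul_mk, mk_eq_mk_iff']
    have hadj : ∀ w, (((itSL s : SLn) : Matrix (Fin n) (Fin n) F) *ᵥ a) ⬝ᵥ w =
        a ⬝ᵥ (((s⁻¹ : SLn) : Matrix (Fin n) (Fin n) F) *ᵥ w) := fun w => by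
      show (((s⁻¹ : SLn) : Matrix (Fin n) (Fin n) F).transpose *ᵥ a) ⬝ᵥ w = _
      rw [Matrix.mulVec_transpose, Matrix.dotProduct_mulVec]
    constructor
    · intro h
      obtain ⟨c, hc⟩ := hb (((itSL s : SLn) : Matrix (Fin n) (Fin n) F) *ᵥ a) fun w hw => by
        rw [← h] at hw
        obtain ⟨x, hx, rfl⟩ := hw
        rw [hadj, Matrix.toLin'_apply, Matrix.mulVec_mulVec, ← Matrix.SpecialLinearGroup.coe_mul, inv_mul_cancel,
          Matrix.SpecialLinearGroup.coe_one, Matrix.one_mulVec]
        exact (haW x).1 hx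
      exact ⟨c, hc.symm⟩
    · rintro ⟨c, hc⟩
      symm
      refine Submodule.eq_of_le_of_finrank_eq (fun w hw => ?_) (Submodule.equivMapOfInjective _ (sl_map_injective s) _).finrank_eq
      refine ⟨((s⁻¹ : SLn) : Matrix (Fin n) (Fin n) F) *ᵥ w, (haW _).2 ?_, ?_⟩
      · rw [← hadj, ← hc, smul_dotProduct, (haW w).1 hw, smul_zero]
      · rw [Matrix.toLin'_apply, Matrix.mulVec_mulVec, ← Matrix.SpecialLinearGroup.coe_mul, mul_inv_cancel,
          Matrix.SpecialLinearGroup.coe_one, Matrix.one_mulVec]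

variable [Finite F]

theorem exists_equivariant (α : MulAut PSLn) (P0 Q0 : Pt F n)
    (h : (stabilizer PSLn P0).map α.toMonoidHom = stabilizer PSLn Q0) :
    ∃ f : Pt F n ≃ Pt F n, ∀ (g : PSLn) P, f (g • P) = α g • f P := by
  have hex : ∀ P : Pt F n, ∃ g : PSLn, g • P0 = P := fun P => exists_smul_eq PSLn P0 P
  choose g hg using hex
  have hwd : ∀ x y : PSLn, x • P0 = y • P0 ↔ α x • Q0 = α y • Q0 := fun x y => by
    rw [eq_comm, ← inv_smul_eq_iff, ← mul_smul, ← mem_stabilizer_iff, eq_comm (a := α x • Q0), ← inv_smul_eq_iff,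
      ← mul_smul, ← mem_stabilizer_iff, ← map_inv, ← map_mul, ← h]
    exact (Subgroup.mem_map_iff_mem (f := α.toMonoidHom) α.injective).symm
  let f : Pt F n → Pt F n := fun P => α (g P) • Q0
  have hinj : Function.Injective f := fun P Q e => by
    rw [← hg P, ← hg Q]; exact (hwd _ _).2 e
  refine ⟨Equiv.ofBijective f ⟨hinj, Finite.injective_iff_surjective.1 hinj⟩, fun x P => ?_⟩
  show α (g (x • P)) • Q0 = α x • α (g P) • Q0
  rw [← mul_smul, ← map_mul]
  exact (hwd _ _).1 (by rw [hg, mul_smul, hg])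

theorem exists_fix_two {a b u : Fin n → F} (hu : u ∉ (F ∙ a) ⊔ (F ∙ b)) {w : Fin n → F}
    (hw : w ∈ (F ∙ a) ⊔ (F ∙ b)) :
    ∃ s : SLn, (s : Matrix (Fin n) (Fin n) F) *ᵥ a = a ∧ (s : Matrix (Fin n) (Fin n) F) *ᵥ b = b ∧
      (s : Matrix (Fin n) (Fin n) F) *ᵥ u = u + w := by
  obtain ⟨φ, hφu, hφ⟩ := exists_dual hu
  refine ⟨tr w φ (hφ w hw), ?_, ?_, by rw [tr_mulVec, hφu, one_smul]⟩
  · rw [tr_mulVec, hφ a (Submodule.mem_sup_left (Submodule.mem_span_singleton_self a)), zero_smul, add_zero]
  · rw [tr_mulVec, hφ b (Submodule.mem_sup_right (Submodule.mem_span_singleton_self b)), zero_smul, add_zero]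

theorem equivariant_preservesLines (α : MulAut PSLn) (f : Pt F n ≃ Pt F n)
    (hf : ∀ (g : PSLn) P, f (g • P) = α g • f P) : PreservesLines f := by
  classical
  letI : Fintype F := Fintype.ofFinite F
  intro P Q R hR
  rcases eq_or_ne P Q with rfl | hPQ
  · rw [sup_idem] at hR ⊢
    have : R = P := Projectivization.submodule_injective (Submodule.eq_of_le_of_finrank_eq hR
      (by rw [finrank_submodule, finrank_submodule]))
    rw [this]
  rcases eq_or_ne R P with rfl | hRP
  · exact le_sup_left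
  rcases eq_or_ne R Q with rfl | hRQ
  · exact le_sup_right
  by_contra hcon
  -- the orbit of `R` is small
  let O : Set (Pt F n) := {X | ∃ g : PSLn, g • P = P ∧ g • Q = Q ∧ g • R = X}
  let O' : Set (Pt F n) := {X | ∃ g : PSLn, g • f P = f P ∧ g • f Q = f Q ∧ g • f R = X}
  have hOO : f '' O = O' := by
    ext X
    constructor
    · rintro ⟨Y, ⟨g, h1, h2, rfl⟩, rfl⟩
      exact ⟨α g, by rw [← hf, h1], by rw [← hf, h2], (hf g R).symm⟩
    · rintro ⟨g, h1, h2, rfl⟩
      obtain ⟨x, rfl⟩ := α.surjective g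
      rw [← hf] at h1 h2 ⊢
      exact ⟨x • R, ⟨x, f.injective h1, f.injective h2, rfl⟩, rfl⟩
  set a := P.rep
  set b := Q.rep
  have hsmall : O.ncard ≤ Fintype.card F - 1 := by
    let L : {c : F // c ≠ 0} → Pt F n := fun c =>
      if h : a + c.1 • b ≠ 0 then Projectivization.mk F (a + c.1 • b) h else P
    have hsub : O ⊆ Set.range L := by
      rintro X ⟨g, h1, h2, rfl⟩
      have hX : (g • R).submodule ≤ P.submodule ⊔ Q.submodule := by
        induction g using QuotientGroup.induction_on with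
        | _ s =>
          rw [submodule_smul]
          refine (Submodule.map_mono hR).trans ?_
          rw [Submodule.map_sup, ← submodule_smul, ← submodule_smul, h1, h2]
      have hne1 : g • R ≠ P := fun e => hRP (smul_left_cancel g (e.trans h1.symm))
      have hne2 : g • R ≠ Q := fun e => hRQ (smul_left_cancel g (e.trans h2.symm))
      rw [submodule_eq, submodule_eq, submodule_eq, Submodule.span_singleton_le_iff_mem, Submodule.mem_sup] at hX
      obtain ⟨y, hy, z, hz, e⟩ := hX
      obtain ⟨c1, rfl⟩ := Submodule.mem_span_singleton.1 hy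
      obtain ⟨c2, rfl⟩ := Submodule.mem_span_singleton.1 hz
      rcases eq_or_ne c1 0 with rfl | hc1
      · exact absurd (by rw [← mk_rep (g • R), ← mk_rep Q]; exact mk_congr _ _ c2 (by simpa using e)) hne2
      rcases eq_or_ne c2 0 with rfl | hc2
      · exact absurd (by rw [← mk_rep (g • R), ← mk_rep P]; exact mk_congr _ _ c1 (by simpa using e)) hne1
      have hne : a + (c2 / c1) • b ≠ 0 := fun h0 => rep_nonzero (g • R) (by
        rw [← e, show c1 • a + c2 • b = c1 • (a + (c2 / c1) • b) by rw [smul_add, smul_smul, mul_div_cancel₀ _ hc1],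
          h0, smul_zero])
      refine ⟨⟨c2 / c1, div_ne_zero hc2 hc1⟩, ?_⟩
      simp only [L, dif_pos hne]
      rw [← mk_rep (g • R)]
      refine mk_congr _ _ c1⁻¹ ?_
      rw [← e, smul_add, smul_smul, smul_smul, inv_mul_cancel₀ hc1, one_smul, inv_mul_eq_div]
    refine (Set.ncard_le_ncard hsub (Set.toFinite _)).trans ?_
    rw [← Set.image_univ]
    refine (Set.ncard_image_le (Set.toFinite _)).trans ?_
    rw [Set.ncard_univ, Nat.card_eq_fintype_card, Fintype.card_subtype_compl]
    simp
  -- the orbit of the image is large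
  set a' := (f P).rep
  set b' := (f Q).rep
  set u := (f R).rep
  have hu : u ∉ (F ∙ a') ⊔ (F ∙ b') := fun h => hcon (by
    rw [submodule_eq, submodule_eq, submodule_eq, Submodule.span_singleton_le_iff_mem]; exact h)
  have hbig : Fintype.card F ≤ O'.ncard := by
    have hne : ∀ c : F, u + c • a' ≠ 0 := fun c h => hu (Submodule.mem_sup_left
      (by rw [eq_neg_of_add_eq_zero_left h]; exact Submodule.neg_mem _ (Submodule.smul_mem _ _ (Submodule.mem_span_singleton_self _))))
    let E : F → Pt F n := fun c => Projectivization.mk F (u + c • a') (hne c)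
    have hE : Function.Injective E := by
      intro c d h
      obtain ⟨t, ht⟩ := (mk_eq_mk_iff' F _ _ _ _).1 h
      have h1 : (t - 1) • u = (c - t * d) • a' := by
        have h2 : c • a' = t • (u + d • a') - u := eq_sub_of_add_eq' ht.symm
        rw [sub_smul, sub_smul, one_smul, mul_smul, h2, smul_add]
        module
      rcases eq_or_ne t 1 with rfl | ht1
      · rw [sub_self, zero_smul, one_mul, eq_comm, smul_eq_zero, sub_eq_zero] at h1
        exact h1.resolve_right (rep_nonzero _)
      · exfalso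
        refine hu (Submodule.mem_sup_left ((Submodule.smul_mem_iff _ (sub_ne_zero.2 ht1)).1 ?_))
        rw [h1]; exact Submodule.smul_mem _ _ (Submodule.mem_span_singleton_self _)
    have hsub : Set.range E ⊆ O' := by
      rintro _ ⟨c, rfl⟩
      obtain ⟨s, hsa, hsb, hsu⟩ := exists_fix_two hu
        (w := c • a') (Submodule.mem_sup_left (Submodule.smul_mem _ _ (Submodule.mem_span_singleton_self _)))
      refine ⟨QuotientGroup.mk s, ?_, ?_, ?_⟩
      · conv_lhs => rw [← mk_rep (f P)]
        rw [psl_smul_mk]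
        conv_rhs => rw [← mk_rep (f P)]
        exact mk_congr _ _ 1 (by rw [one_smul]; exact hsa.symm)
      · conv_lhs => rw [← mk_rep (f Q)]
        rw [psl_smul_mk]
        conv_rhs => rw [← mk_rep (f Q)]
        exact mk_congr _ _ 1 (by rw [one_smul]; exact hsb.symm)
      · conv_lhs => rw [← mk_rep (f R)]
        rw [psl_smul_mk]
        exact mk_congr _ _ 1 (by rw [one_smul]; exact hsu.symm)
    refine le_trans (le_of_eq ?_) (Set.ncard_le_ncard hsub (Set.toFinite _))
    rw [← Set.image_univ, Set.ncard_image_of_injective _ hE, Set.ncard_univ, Nat.card_eq_fintype_card]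
  rw [← hOO, Set.ncard_image_of_injective _ f.injective] at hbig
  have : 0 < Fintype.card F := Fintype.card_pos
  omega

theorem exists_semi (hn : 2 ≤ n) (α : MulAut PSLn) :
    ∃ (A : GL (Fin n) F) (σ : F ≃+* F), α = semiAut A σ ∨ α = semiAut A σ * itAut := by
  classical
  have key : ∀ (β : MulAut PSLn) (P0 Q0 : Pt F n), (stabilizer PSLn P0).map β.toMonoidHom = stabilizer PSLn Q0 →
      ∃ (A : GL (Fin n) F) (σ : F ≃+* F), β = semiAut A σ := by
    intro β P0 Q0 h
    obtain ⟨f, hf⟩ := exists_equivariant β P0 Q0 h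
    have hnorm : NormalisesSL f := by
      intro T hT
      obtain ⟨t, ht⟩ := QuotientGroup.mk_surjective (β (QuotientGroup.mk (ofGL T hT)))
      refine ⟨Matrix.SpecialLinearGroup.toGL t, fun P => ?_⟩
      have e : T • P = (QuotientGroup.mk (ofGL T hT) : PSLn) • P := by
        rw [sl_smul_eq]
        congr 1
        exact Units.ext rfl
      rw [e, hf, ← ht, sl_smul_eq]
    obtain ⟨A, σ, hA⟩ := exists_semilinear hn f (equivariant_preservesLines β f hf) hnorm
    refine ⟨A, σ, MulEquiv.ext fun g => eq_of_smul_eq_smul (α := Pt F n) fun X => ?_⟩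
    obtain ⟨P, rfl⟩ := f.surjective X
    rw [← hf]
    induction g using QuotientGroup.induction_on with
    | _ s =>
      induction P using Projectivization.ind with
      | _ v hv =>
        rw [psl_smul_mk, hA, hA, semiAut_mk, gl_smul_mk, gl_smul_mk, psl_smul_mk]
        refine mk_congr _ _ 1 ?_
        rw [one_smul, semi_smul]
  let P0 : Pt F n := Projectivization.mk F (Pi.single ⟨0, by omega⟩ 1) (by simp)
  obtain ⟨W, hW, hdim⟩ := exists_point_or_hyperplane hn α P0
  rcases hdim with h1 | h1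
  · obtain ⟨A, σ, h⟩ := key α P0 (Projectivization.mk'' W h1) (by rw [hW, ← stabSub_point, submodule_mk''])
    exact ⟨A, σ, Or.inl h⟩
  · obtain ⟨Q, hQ⟩ := itAut_stab h1 (by omega)
    obtain ⟨A, σ, h⟩ := key (itAut * α) P0 Q (by
      rw [← hQ, ← hW, Subgroup.map_map]
      congr 1)
    refine ⟨itGL A, σ, Or.inr ?_⟩
    rw [← it_semi, ← h, ← mul_assoc, itAut_sq, one_mul]

end CfsgLib.KnownC.AutPSL
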