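import Cfsg.Prelude.Def_LieTypeDatum

set_option autoImplicit false
set_option linter.unusedSectionVars false

/-! Counting the classes of a normal subgroup inside a class, in abstract form. -/

namespace CfsgLib.KnownC.SplitGen

variable {X Γ Q : Type*} [Group X] [Group Γ] [CommGroup Q]

/-- If `G` is an image of `Γ` and `N ≤ G` corresponds to the kernel of a surjection `D : Γ → Q`, a `G`-class splits
into as many `N`-classes as the index in `Q` of the image of the centraliser. -/
theorem split_count (π : Γ →* X) (D : Γ →* Q) (N : Subgroup X) (hD : Function.Surjective D)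
    (hN : ∀ a, π a ∈ N ↔ D a = 1) (hNG : N ≤ π.range) (x : X) :
    Cfsg.splitClassCount π.range N x = (((Subgroup.centralizer {x}).comap π).map D).index := by
  classical
  set S := ((Subgroup.centralizer {x}).comap π).map D
  let cj : Γ → X := fun a => π a * x * (π a)⁻¹
  have hwd : ∀ a b, cj a = cj b → (QuotientGroup.mk (D a) : Q ⧸ S) = QuotientGroup.mk (D b) := fun a b h => by
    rw [QuotientGroup.eq]
    refine ⟨a⁻¹ * b, ?_, by rw [map_mul, map_inv]⟩
    show π (a⁻¹ * b) ∈ Subgroup.centralizer {x}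
    rw [Subgroup.mem_centralizer_singleton_iff, map_mul, map_inv]
    simp only [cj] at h
    calc _ = (π a)⁻¹ * (π b * x * (π b)⁻¹) * π b := by group
      _ = _ := by rw [← h]; group
  have hex : ∀ y : {y // Cfsg.IsConjUnder π.range x y}, ∃ a, y.1 = cj a := fun y => by
    obtain ⟨_, ⟨a, rfl⟩, e⟩ := y.2
    exact ⟨a, e⟩
  choose rep hrep using hex
  have hT : ∀ a b, (QuotientGroup.mk (D a) : Q ⧸ S) = QuotientGroup.mk (D b) → ∃ t ∈ N, cj b = t * cj a * t⁻¹ :=
    fun a b h => by
    obtain ⟨c, hc, e⟩ := QuotientGroup.eq.1 h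
    change π c ∈ Subgroup.centralizer {x} at hc
    rw [Subgroup.mem_centralizer_singleton_iff] at hc
    refine ⟨π (b * c⁻¹ * a⁻¹), (hN _).2 ?_, ?_⟩
    · rw [map_mul, map_mul, map_inv, map_inv, e, _root_.mul_inv_rev, inv_inv, mul_assoc, mul_assoc,
        mul_inv_cancel, mul_one, mul_inv_cancel]
    · simp only [cj, map_mul, map_inv]
      have hx : (π c)⁻¹ * x * π c = x := by rw [mul_assoc, ← hc, inv_mul_cancel_left]
      conv_lhs => rw [← hx]
      group
  let Λ : Quot (fun y z : {y // Cfsg.IsConjUnder π.range x y} => Cfsg.IsConjUnder N y.1 z.1) → Q ⧸ S :=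
    Quot.lift (fun y => QuotientGroup.mk (D (rep y))) (fun y z hyz => by
      obtain ⟨t, ht, e⟩ := hyz
      obtain ⟨s, rfl⟩ := hNG ht
      rw [hrep y, hrep z] at e
      have : cj (rep z) = cj (s * rep y) := by rw [e]; simp only [cj, map_mul]; group
      rw [hwd _ _ this, map_mul, (hN s).1 ht, one_mul])
  have hbij : Function.Bijective Λ := by
    constructor
    · rintro ⟨y⟩ ⟨z⟩ h
      obtain ⟨t, ht, e⟩ := hT _ _ h
      exact Quot.sound ⟨t, ht, by rw [hrep y, hrep z]; exact e⟩
    · intro q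
      induction q using QuotientGroup.induction_on with
      | _ u =>
        obtain ⟨a, rfl⟩ := hD u
        refine ⟨Quot.mk _ ⟨cj a, π a, ⟨a, rfl⟩, rfl⟩, ?_⟩
        exact (hwd _ _ (hrep ⟨cj a, π a, ⟨a, rfl⟩, rfl⟩)).symm
  show Nat.card (Quot _) = _
  rw [Nat.card_congr (Equiv.ofBijective Λ hbij), ← Subgroup.index_eq_card]

/-- Transport of the count along conjugation. -/
theorem count_conj {G N : Subgroup X} (hG : G.Normal) (hN : N.Normal) (α x : X) :
    Cfsg.splitClassCount G N x = Cfsg.splitClassCount G N (α * x * α⁻¹) := by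
  have hconj : ∀ (H : Subgroup X), H.Normal → ∀ a b, Cfsg.IsConjUnder H a b ↔
      Cfsg.IsConjUnder H (α * a * α⁻¹) (α * b * α⁻¹) := fun H hH a b => by
    constructor
    · rintro ⟨h, hh, rfl⟩
      exact ⟨α * h * α⁻¹, hH.conj_mem h hh α, by group⟩
    · rintro ⟨h, hh, e⟩
      refine ⟨α⁻¹ * h * α, by simpa using hH.conj_mem h hh α⁻¹, ?_⟩
      calc b = α⁻¹ * (α * b * α⁻¹) * α := by group
        _ = _ := by rw [e]; group
  exact Nat.card_congr (Quot.congr ((MulAut.conj α).toEquiv.subtypeEquiv fun y => hconj _ hG x y)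
    fun y z => hconj _ hN y.1 z.1)

/-- Transport of the centraliser along conjugation. -/
theorem centralizer_conj {G : Subgroup X} (hG : G.Normal) (α x : X) :
    Nonempty (↥(G ⊓ Subgroup.centralizer {x}) ≃* ↥(G ⊓ Subgroup.centralizer {α * x * α⁻¹})) := by
  have hmap : (G ⊓ Subgroup.centralizer {x}).map (MulAut.conj α).toMonoidHom =
      G ⊓ Subgroup.centralizer {α * x * α⁻¹} := by
    ext y
    rw [Subgroup.mem_map_equiv, MulAut.conj_symm_apply, Subgroup.mem_inf, Subgroup.mem_inf,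
      Subgroup.mem_centralizer_singleton_iff, Subgroup.mem_centralizer_singleton_iff]
    refine and_congr ⟨fun h => ?_, fun h => ?_⟩ ⟨fun h => ?_, fun h => ?_⟩
    · simpa [mul_assoc] using hG.conj_mem _ h α
    · simpa [mul_assoc] using hG.conj_mem _ h α⁻¹
    · calc _ = α * (α⁻¹ * y * α * x) * α⁻¹ := by group
        _ = _ := by rw [h]; group
    · calc _ = α⁻¹ * (y * (α * x * α⁻¹)) * α := by group
        _ = _ := by rw [h]; group
  exact ⟨((MulAut.conj α).subgroupMap _).trans (MulEquiv.subgroupCongr hmap)⟩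

/-- The parity of `(q^r - 1)/(q - 1)`. -/
theorem gcd_two_geom {q r : ℕ} (hq : 2 ≤ q) (hr : 1 ≤ r) :
    Nat.gcd 2 ((q ^ r - 1) / (q - 1)) = Nat.gcd (Nat.gcd 2 (q ^ r - 1)) r := by
  have hsum : (q ^ r - 1) / (q - 1) = ∑ k ∈ Finset.range r, q ^ k := (Nat.geomSum_eq hq r).symm
  have h2 : ∀ n : ℕ, Nat.gcd 2 n = if n % 2 = 0 then 2 else 1 := fun n => by
    rcases Nat.mod_two_eq_zero_or_one n with h | h
    · rw [if_pos h]
      exact Nat.gcd_eq_left (Nat.dvd_of_mod_eq_zero h)
    · rw [if_neg (by omega), Nat.gcd_rec, h, Nat.gcd_one_left]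
  rw [hsum]
  rcases Nat.even_or_odd q with he | ho
  · have h1 : ∀ k, (∑ i ∈ Finset.range (k + 1), q ^ i) % 2 = 1 := by
      intro k
      induction k with
      | zero => simp
      | succ k ih =>
        rw [Finset.sum_range_succ, Nat.add_mod, ih, Nat.pow_mod, Nat.even_iff.1 he, Nat.zero_pow (by omega)]
    obtain ⟨k, rfl⟩ : ∃ k, r = k + 1 := ⟨r - 1, by omega⟩
    have h4 : q ^ (k + 1) % 2 = 0 := by rw [Nat.pow_mod, Nat.even_iff.1 he, Nat.zero_pow (by omega)]
    have h5 : 1 ≤ q ^ (k + 1) := Nat.one_le_pow _ _ (by omega)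
    have h3 : (q ^ (k + 1) - 1) % 2 = 1 := by omega
    rw [h2, h1, if_neg (by omega), h2, h3, if_neg (by omega), Nat.gcd_one_left]
  · have h1 : ∀ k, (∑ i ∈ Finset.range k, q ^ i) % 2 = k % 2 := by
      intro k
      induction k with
      | zero => simp
      | succ k ih =>
        rw [Finset.sum_range_succ, Nat.add_mod, ih, Nat.pow_mod, Nat.odd_iff.1 ho, one_pow]; omega
    have h4 : q ^ r % 2 = 1 := by rw [Nat.pow_mod, Nat.odd_iff.1 ho, one_pow]; rfl
    have h3 : (q ^ r - 1) % 2 = 0 := by omega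
    rw [h2, h1, h2 (q ^ r - 1), h3, if_pos rfl, h2]

end CfsgLib.KnownC.SplitGen
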