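import Cfsg.Agent.Lib.KnownC.AutPSL.FieldClass

set_option autoImplicit false
set_option linter.unusedSectionVars false

/-! Splitting of a class under the inner-diagonal group into classes under the inner group. -/

namespace CfsgLib.KnownC.AutPSL

open Matrix

variable {F : Type*} [Field F] {n : ℕ}

local notation "SLn" => Matrix.SpecialLinearGroup (Fin n) F
local notation "PSLn" => Matrix.ProjectiveSpecialLinearGroup (Fin n) F

theorem refl_mul (A B : GL (Fin n) F) : semiAut A (RingEquiv.refl F) * semiAut B (RingEquiv.refl F) =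
    semiAut (A * B : GL (Fin n) F) (RingEquiv.refl F) := by
  rw [semiAut_mul, map_refl_eq]; rfl

theorem refl_inv (A : GL (Fin n) F) :
    (semiAut A (RingEquiv.refl F))⁻¹ = semiAut (A⁻¹ : GL (Fin n) F) (RingEquiv.refl F) :=
  inv_eq_of_mul_eq_one_right (by rw [refl_mul, mul_inv_cancel, semiAut_one])

variable [Fintype F]

/-- The number of classes is the index of the group of determinants of the centraliser times `n`-th powers. -/
theorem split_count (hn : 2 ≤ n) (x0 : MulAut PSLn) (S : Subgroup Fˣ)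
    (hc : ∀ A : GL (Fin n) F, semiAut A (RingEquiv.refl F) * x0 = x0 * semiAut A (RingEquiv.refl F) →
      Matrix.GeneralLinearGroup.det A ∈ S)
    (hk : ∀ s ∈ S, ∃ (C : GL (Fin n) F) (u : Fˣ),
      semiAut C (RingEquiv.refl F) * x0 = x0 * semiAut C (RingEquiv.refl F) ∧
        Matrix.GeneralLinearGroup.det C * u ^ n = s) :
    Cfsg.splitClassCount (Cfsg.inndiagPSL n F) (Cfsg.Inn PSLn) x0 = S.index := by
  classical
  let D : GL (Fin n) F →* Fˣ ⧸ S := (QuotientGroup.mk' S).comp Matrix.GeneralLinearGroup.det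
  let cj : GL (Fin n) F → MulAut PSLn := fun A =>
    semiAut A (RingEquiv.refl F) * x0 * (semiAut A (RingEquiv.refl F))⁻¹
  have hwd : ∀ A B, cj A = cj B → D A = D B := fun A B h => by
    have hcm : semiAut (A⁻¹ * B) (RingEquiv.refl F) * x0 = x0 * semiAut (A⁻¹ * B) (RingEquiv.refl F) := by
      rw [← refl_mul, ← refl_inv]
      simp only [cj] at h
      calc _ = (semiAut A (RingEquiv.refl F))⁻¹ * (semiAut B (RingEquiv.refl F) * x0 *
            (semiAut B (RingEquiv.refl F))⁻¹) * semiAut B (RingEquiv.refl F) := by group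
        _ = _ := by rw [← h]; group
    have h1 : D (A⁻¹ * B) = 1 := (QuotientGroup.eq_one_iff _).2 (hc _ hcm)
    rw [map_mul, map_inv, inv_mul_eq_one] at h1
    exact h1
  have hex : ∀ y : {y // Cfsg.IsConjUnder (Cfsg.inndiagPSL n F) x0 y}, ∃ A, y.1 = cj A := fun y => by
    obtain ⟨h, hh, e⟩ := y.2
    obtain ⟨A, rfl⟩ := (inndiag_iff_mem h).1 hh
    exact ⟨A, e⟩
  choose rep hrep using hex
  have hT : ∀ A B, D A = D B → ∃ t ∈ Cfsg.Inn PSLn, cj B = t * cj A * t⁻¹ := fun A B h => by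
    have hm : (Matrix.GeneralLinearGroup.det A)⁻¹ * Matrix.GeneralLinearGroup.det B ∈ S := QuotientGroup.eq.1 h
    obtain ⟨C, u, hcC, e⟩ := hk _ hm
    refine ⟨semiAut (B * C⁻¹ * A⁻¹) (RingEquiv.refl F), ?_, ?_⟩
    · rw [mem_inn_iff hn]
      refine ⟨u, ?_⟩
      rw [map_mul, map_mul, map_inv, map_inv, mul_right_comm, eq_mul_inv_iff_mul_eq, mul_comm, e, mul_comm]
    · have hx : (semiAut C (RingEquiv.refl F))⁻¹ * x0 * semiAut C (RingEquiv.refl F) = x0 := by
        rw [mul_assoc, ← hcC, inv_mul_cancel_left]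
      show semiAut B _ * x0 * (semiAut B _)⁻¹ = _
      simp only [cj, ← refl_mul, ← refl_inv]
      conv_lhs => rw [← hx]
      group
  let Λ : Quot (fun y z : {y // Cfsg.IsConjUnder (Cfsg.inndiagPSL n F) x0 y} =>
      Cfsg.IsConjUnder (Cfsg.Inn PSLn) y.1 z.1) → Fˣ ⧸ S := Quot.lift (fun y => D (rep y)) (fun y z hyz => by
    obtain ⟨t, ⟨g, rfl⟩, e⟩ := hyz
    induction g using QuotientGroup.induction_on with
    | _ s =>
      rw [conj_mk, hrep y, hrep z] at e
      have : cj (rep z) = cj (Matrix.SpecialLinearGroup.toGL s * rep y) := by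
        rw [e]; simp only [cj, ← refl_mul]; group
      rw [hwd _ _ this, map_mul]
      have hs : D (Matrix.SpecialLinearGroup.toGL s) = 1 := by
        show (QuotientGroup.mk _ : Fˣ ⧸ S) = 1
        rw [show Matrix.GeneralLinearGroup.det (Matrix.SpecialLinearGroup.toGL s) = 1 from Units.ext s.2]
        rfl
      rw [hs, one_mul])
  have hbij : Function.Bijective Λ := by
    constructor
    · rintro ⟨y⟩ ⟨z⟩ h
      obtain ⟨t, ht, e⟩ := hT _ _ h
      exact Quot.sound ⟨t, ht, by rw [hrep y, hrep z]; exact e⟩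
    · intro q
      induction q using QuotientGroup.induction_on with
      | _ u =>
        let y : {y // Cfsg.IsConjUnder (Cfsg.inndiagPSL n F) x0 y} :=
          ⟨cj (dg (by omega : 1 ≤ n) u), _, semi_mem_inndiag _, rfl⟩
        refine ⟨Quot.mk _ y, ?_⟩
        show D (rep y) = _
        rw [← hwd _ _ (hrep y)]
        show (QuotientGroup.mk _ : Fˣ ⧸ S) = _
        rw [det_dg]
  show Nat.card (Quot _) = _
  rw [Nat.card_congr (Equiv.ofBijective Λ hbij), ← Subgroup.index_eq_card]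

theorem isConjUnder_conj {H : Subgroup (MulAut PSLn)} (hH : H.Normal) (α a b : MulAut PSLn) :
    Cfsg.IsConjUnder H a b ↔ Cfsg.IsConjUnder H (α * a * α⁻¹) (α * b * α⁻¹) := by
  constructor
  · rintro ⟨h, hh, rfl⟩
    exact ⟨α * h * α⁻¹, hH.conj_mem h hh α, by group⟩
  · rintro ⟨h, hh, e⟩
    refine ⟨α⁻¹ * h * α, by simpa using hH.conj_mem h hh α⁻¹, ?_⟩
    calc b = α⁻¹ * (α * b * α⁻¹) * α := by group
      _ = _ := by rw [e]; group

theorem split_count_conj (hn : 2 ≤ n) (x x0 : MulAut PSLn) (hx : Cfsg.IsConjUnder (Cfsg.inndiagPSL n F) x0 x) :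
    Cfsg.splitClassCount (Cfsg.inndiagPSL n F) (Cfsg.Inn PSLn) x =
      Cfsg.splitClassCount (Cfsg.inndiagPSL n F) (Cfsg.Inn PSLn) x0 := by
  obtain ⟨g, hg, rfl⟩ := hx
  refine Nat.card_congr (Quot.congr (Equiv.subtypeEquivRight fun y => ?_) fun _ _ => Iff.rfl)
  constructor
  · rintro ⟨h, hh, rfl⟩
    exact ⟨h * g, Subgroup.mul_mem _ hh hg, by group⟩
  · rintro ⟨h, hh, rfl⟩
    exact ⟨h * g⁻¹, Subgroup.mul_mem _ hh (Subgroup.inv_mem _ hg), by group⟩

theorem centralizer_conj_equiv (hn : 2 ≤ n) (x x0 : MulAut PSLn) (hx : Cfsg.IsConjUnder (Cfsg.inndiagPSL n F) x0 x) :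
    Nonempty (↥(Cfsg.inndiagPSL n F ⊓ Subgroup.centralizer {x}) ≃*
      ↥(Cfsg.inndiagPSL n F ⊓ Subgroup.centralizer {x0})) := by
  obtain ⟨g, hg, rfl⟩ := hx
  have hN := inndiag_normal (F := F) hn
  have hmap : (Cfsg.inndiagPSL n F ⊓ Subgroup.centralizer {x0}).map (MulAut.conj g).toMonoidHom =
      Cfsg.inndiagPSL n F ⊓ Subgroup.centralizer {g * x0 * g⁻¹} := by
    ext y
    rw [Subgroup.mem_map_equiv, MulAut.conj_symm_apply, Subgroup.mem_inf, Subgroup.mem_inf,
      Subgroup.mem_centralizer_singleton_iff, Subgroup.mem_centralizer_singleton_iff]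
    refine and_congr ⟨fun h => ?_, fun h => ?_⟩ ⟨fun h => ?_, fun h => ?_⟩
    · simpa [mul_assoc] using hN.conj_mem _ h g
    · simpa [mul_assoc] using hN.conj_mem _ h g⁻¹
    · calc _ = g * (g⁻¹ * y * g * x0) * g⁻¹ := by group
        _ = _ := by rw [h]; group
    · calc _ = g⁻¹ * (y * (g * x0 * g⁻¹)) * g := by group
        _ = _ := by rw [h]; group
  exact ⟨(((MulAut.conj g).subgroupMap _).trans (MulEquiv.subgroupCongr hmap)).symm⟩

end CfsgLib.KnownC.AutPSL
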