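import Mathlib

set_option autoImplicit false
set_option linter.unusedSectionVars false

/-!
A permutation of the points of a finite projective space that preserves collinearity and normalises the
special linear group is induced by a semilinear map.
-/

namespace CfsgLib.KnownC.AutPSL

open Projectivization Matrix

variable {F : Type*} [Field F]

/-- The points of projective space. -/
abbrev Pt (F : Type*) [Field F] (n : ℕ) : Type _ := Projectivization F (Fin n → F)

variable {n : ℕ}

theorem gl_smul_vec (S : GL (Fin n) F) (v : Fin n → F) : S • v = (S : Matrix (Fin n) (Fin n) F) *ᵥ v := rfl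

theorem gl_ne_zero (S : GL (Fin n) F) {v : Fin n → F} (hv : v ≠ 0) : (S : Matrix (Fin n) (Fin n) F) *ᵥ v ≠ 0 :=
  (smul_ne_zero_iff_ne S).2 hv

theorem gl_smul_mk (S : GL (Fin n) F) {v : Fin n → F} (hv : v ≠ 0) :
    S • (Projectivization.mk F v hv) = Projectivization.mk F ((S : Matrix (Fin n) (Fin n) F) *ᵥ v) (gl_ne_zero S hv) :=
  rfl

theorem mk_congr {v w : Fin n → F} (hv : v ≠ 0) (hw : w ≠ 0) (a : F) (h : a • w = v) :
    Projectivization.mk F v hv = Projectivization.mk F w hw := (mk_eq_mk_iff' F v w hv hw).2 ⟨a, h⟩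

/-- The collinearity condition. -/
def PreservesLines (f : Pt F n → Pt F n) : Prop :=
  ∀ P Q R : Pt F n, R.submodule ≤ P.submodule ⊔ Q.submodule → (f R).submodule ≤ (f P).submodule ⊔ (f Q).submodule

/-- Normalising the special linear group. -/
def NormalisesSL (f : Pt F n → Pt F n) : Prop :=
  ∀ T : GL (Fin n) F, (T : Matrix (Fin n) (Fin n) F).det = 1 → ∃ S : GL (Fin n) F, ∀ P, f (T • P) = S • f P

theorem mem_span_single [DecidableEq (Fin n)] (v : Fin n → F) (s : Finset (Fin n)) (hv : ∀ i, i ∉ s → v i = 0) :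
    v = ∑ i ∈ s, v i • Pi.single i (1 : F) := by
  funext j
  simp only [Finset.sum_apply, Pi.smul_apply, Pi.single_apply, smul_eq_mul, mul_ite, mul_one, mul_zero,
    Finset.sum_ite_eq]
  split_ifs with h
  · rfl
  · exact hv j h

theorem support_span (f : Pt F n → Pt F n) (hcol : PreservesLines f) (s : Finset (Fin n)) :
    ∀ (v : Fin n → F) (hv : v ≠ 0), (∀ i, i ∉ s → v i = 0) →
      (f (Projectivization.mk F v hv)).submodule ≤
        ⨆ i ∈ s, (f (Projectivization.mk F (Pi.single i (1 : F)) (by simp))).submodule := by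
  induction s using Finset.induction with
  | empty => intro v hv h; exact absurd (funext fun i => h i (Finset.notMem_empty i)) hv
  | insert i s his ih =>
    intro v hv h
    rw [Finset.iSup_insert]
    set v' : Fin n → F := Function.update v i 0
    have hv' : ∀ j, j ∉ s → v' j = 0 := fun j hj => by
      by_cases hji : j = i
      · subst hji; simp [v']
      · simp [v', hji, h j (by simp [hji, hj])]
    have hdec : v = v' + v i • Pi.single i (1 : F) := by
      funext j
      by_cases hji : j = i
      · subst hji; simp [v']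
      · simp [v', hji]
    by_cases h0 : v' = 0
    · refine le_trans (le_of_eq ?_) le_sup_left
      congr 2
      refine mk_congr _ _ (v i) ?_
      conv_rhs => rw [hdec, h0, zero_add]
    · refine le_trans (hcol (Projectivization.mk F (Pi.single i (1 : F)) (by simp)) (Projectivization.mk F v' h0)
        (Projectivization.mk F v hv) ?_) (sup_le_sup_left (ih v' h0 hv') _)
      rw [submodule_mk, submodule_mk, submodule_mk, Submodule.span_singleton_le_iff_mem]
      refine Submodule.mem_sup.2 ⟨v i • Pi.single i (1 : F), Submodule.smul_mem _ _ (Submodule.mem_span_singleton_self _),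
        v', Submodule.mem_span_singleton_self _, ?_⟩
      rw [add_comm]; exact hdec.symm

variable [Finite F]

theorem exists_frame (f : Pt F n ≃ Pt F n) (hcol : PreservesLines f) :
    ∃ A : GL (Fin n) F, ∀ i, f (Projectivization.mk F (Pi.single i (1 : F)) (by simp)) =
      A • Projectivization.mk F (Pi.single i (1 : F)) (by simp) := by
  classical
  set w : Fin n → (Fin n → F) := fun i => (f (Projectivization.mk F (Pi.single i (1 : F)) (by simp))).rep
  have hspan : ⊤ ≤ Submodule.span F (Set.range w) := by
    intro v _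
    rcases eq_or_ne v 0 with rfl | hv
    · exact zero_mem _
    obtain ⟨P, hP⟩ := f.surjective (Projectivization.mk F v hv)
    induction P using Projectivization.ind with
    | _ u hu =>
      have h := support_span f hcol Finset.univ u hu (fun i hi => absurd (Finset.mem_univ i) hi)
      rw [hP, submodule_mk, Submodule.span_singleton_le_iff_mem] at h
      have hle : (⨆ i ∈ (Finset.univ : Finset (Fin n)),
          (f (Projectivization.mk F (Pi.single i (1 : F)) (by simp))).submodule) ≤ Submodule.span F (Set.range w) :=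
        iSup₂_le fun i _ => by
          rw [submodule_eq, Submodule.span_singleton_le_iff_mem]
          exact Submodule.subset_span ⟨i, rfl⟩
      exact hle h
  have hli : LinearIndependent F w := linearIndependent_of_top_le_span_of_card_eq_finrank hspan (by simp)
  let M : Matrix (Fin n) (Fin n) F := Matrix.of fun i j => w j i
  have hM : IsUnit M := by
    rw [← Matrix.linearIndependent_cols_iff_isUnit]
    exact hli
  refine ⟨hM.unit, fun i => ?_⟩
  rw [gl_smul_mk]
  conv_lhs => rw [← mk_rep (f _)]
  refine mk_congr _ _ 1 ?_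
  rw [one_smul, IsUnit.unit_spec, Matrix.mulVec_single_one]
  rfl

section Affine

variable {k : ℕ}

/-- The affine chart. -/
def emb (x : Fin k → F) : Fin (k + 1) → F := Fin.snoc x 1

theorem emb_ne (x : Fin k → F) : emb x ≠ 0 := fun h => one_ne_zero (α := F) (by
  have := congrFun h (Fin.last k); simpa [emb] using this)

/-- A point of the chart. -/
def aff (x : Fin k → F) : Pt F (k + 1) := Projectivization.mk F (emb x) (emb_ne x)

theorem aff_injective : Function.Injective (aff (F := F) (k := k)) := fun x y h => by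
  obtain ⟨a, ha⟩ := (mk_eq_mk_iff' F _ _ _ _).1 h
  have h1 : a = 1 := by
    have := congrFun ha (Fin.last k); simpa [emb] using this
  rw [h1, one_smul] at ha
  funext i
  have := congrFun ha i.castSucc
  simpa [emb] using this.symm

/-- The hyperplane at infinity. -/
def AtInf (P : Pt F (k + 1)) : Prop := P.rep (Fin.last k) = 0

theorem atInf_mk {v : Fin (k + 1) → F} (hv : v ≠ 0) : AtInf (Projectivization.mk F v hv) ↔ v (Fin.last k) = 0 := by
  obtain ⟨a, ha⟩ := exists_smul_eq_mk_rep F v hv
  rw [AtInf, ← ha, Pi.smul_apply, Units.smul_def, smul_eq_mul, mul_eq_zero]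
  exact or_iff_right a.ne_zero

theorem exists_aff {P : Pt F (k + 1)} (h : ¬ AtInf P) : ∃ x, P = aff x := by
  induction P using Projectivization.ind with
  | _ v hv =>
    rw [atInf_mk] at h
    refine ⟨fun i => v i.castSucc / v (Fin.last k), mk_congr _ _ (v (Fin.last k)) ?_⟩
    funext i
    refine Fin.lastCases ?_ (fun j => ?_) i
    · simp [emb]
    · simp [emb]; field_simp

variable (f : Pt F (k + 1) ≃ Pt F (k + 1)) (hcol : PreservesLines f) (hnorm : NormalisesSL f)
  (hfix : ∀ i, f (Projectivization.mk F (Pi.single i (1 : F)) (by simp)) = Projectivization.mk F (Pi.single i (1 : F)) (by simp))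

include hcol hfix in
theorem atInf_iff (P : Pt F (k + 1)) : AtInf (f P) ↔ AtInf P := by
  classical
  have key : ∀ P : Pt F (k + 1), AtInf P → AtInf (f P) := by
    intro P hP
    induction P using Projectivization.ind with
    | _ v hv =>
      rw [atInf_mk] at hP
      have h := support_span f hcol (Finset.univ.erase (Fin.last k)) v hv (fun i hi => by
        rw [Finset.mem_erase, not_and_or] at hi
        rcases hi with hi | hi
        · rw [not_not] at hi; rw [hi]; exact hP
        · exact absurd (Finset.mem_univ i) hi)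
      have hle : (⨆ i ∈ Finset.univ.erase (Fin.last k), (f (Projectivization.mk F (Pi.single i (1 : F)) (by simp))).submodule) ≤
          LinearMap.ker (LinearMap.proj (R := F) (φ := fun _ => F) (Fin.last k)) := by
        refine iSup₂_le fun i hi => ?_
        rw [hfix, submodule_mk, Submodule.span_singleton_le_iff_mem]
        simp [Pi.single_apply, (Finset.ne_of_mem_erase hi).symm]
      have h' := h.trans hle
      rw [submodule_eq, Submodule.span_singleton_le_iff_mem] at h'
      exact h'
  refine ⟨fun h => ?_, key P⟩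
  let g : {P : Pt F (k + 1) // AtInf P} → {P : Pt F (k + 1) // AtInf P} := fun P => ⟨f P.1, key _ P.2⟩
  haveI : Finite (Pt F (k + 1)) := inferInstance
  obtain ⟨Q, hQ⟩ := (Finite.injective_iff_surjective.1
    (fun a b hab => Subtype.ext (f.injective (congrArg Subtype.val hab)) : Function.Injective g)) ⟨f P, h⟩
  have := f.injective (congrArg Subtype.val hQ)
  exact this ▸ Q.2

include hcol hfix in
theorem exists_aff_map : ∃ φ : (Fin k → F) → (Fin k → F), Function.Injective φ ∧ φ 0 = 0 ∧ ∀ x, f (aff x) = aff (φ x) := by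
  have h : ∀ x, ∃ y, f (aff x) = aff y := fun x => exists_aff fun hh => by
    rw [atInf_iff f hcol hfix, aff, atInf_mk] at hh
    simp [emb] at hh
  choose φ hφ using h
  refine ⟨φ, fun x y hxy => aff_injective (f.injective (by rw [hφ, hφ, hxy])), ?_, hφ⟩
  have e : aff (0 : Fin k → F) = Projectivization.mk F (Pi.single (Fin.last k) (1 : F)) (by simp) :=
    mk_congr _ _ 1 (by
      funext i
      refine Fin.lastCases ?_ (fun j => ?_) i <;> simp [emb])
  apply aff_injective
  rw [← hφ, e, hfix, ← e]

/-- The translation. -/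
def trans (a : Fin k → F) : Matrix (Fin (k + 1)) (Fin (k + 1)) F :=
  1 + Matrix.vecMulVec (Fin.snoc a 0) (Pi.single (Fin.last k) 1)

theorem trans_mulVec (a : Fin k → F) (v : Fin (k + 1) → F) :
    trans a *ᵥ v = v + v (Fin.last k) • (Fin.snoc a 0 : Fin (k + 1) → F) := by
  rw [trans, Matrix.add_mulVec, Matrix.one_mulVec, Matrix.vecMulVec_mulVec, single_dotProduct, one_mul, op_smul_eq_smul]

theorem trans_det (a : Fin k → F) : (trans a).det = 1 := by
  rw [trans, Matrix.vecMulVec_eq Unit, Matrix.det_one_add_replicateCol_mul_replicateRow]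
  simp

/-- The translation as an invertible matrix. -/
noncomputable def transGL (a : Fin k → F) : GL (Fin (k + 1)) F :=
  Matrix.GeneralLinearGroup.mk'' (trans a) (by rw [trans_det]; exact isUnit_one)

theorem transGL_aff (a x : Fin k → F) : transGL a • aff x = aff (x + a) := by
  rw [aff, gl_smul_mk]
  refine mk_congr _ _ 1 ?_
  show (1 : F) • emb (x + a) = trans a *ᵥ emb x
  rw [trans_mulVec, one_smul]
  funext i
  refine Fin.lastCases ?_ (fun j => ?_) i <;> simp [emb]

theorem transGL_inf (a : Fin k → F) {v : Fin (k + 1) → F} (hv : v ≠ 0) (h : v (Fin.last k) = 0) :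
    transGL a • Projectivization.mk F v hv = Projectivization.mk F v hv := by
  rw [gl_smul_mk]
  refine mk_congr _ _ 1 ?_
  show (1 : F) • v = trans a *ᵥ v
  rw [trans_mulVec, h, zero_smul, add_zero, one_smul]

include hcol hnorm hfix in
theorem aff_additive (φ : (Fin k → F) → (Fin k → F)) (hφ0 : φ 0 = 0) (hφ : ∀ x, f (aff x) = aff (φ x)) (hk : 1 ≤ k) :
    ∀ x a, φ (x + a) = φ x + φ a := by
  classical
  intro x a
  rcases eq_or_ne a 0 with rfl | ha
  · rw [add_zero, hφ0, add_zero]
  obtain ⟨S, hS⟩ := hnorm (transGL a) (trans_det a)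
  have hSinf : ∀ v : Fin (k + 1) → F, ∀ hv : v ≠ 0, v (Fin.last k) = 0 →
      S • Projectivization.mk F v hv = Projectivization.mk F v hv := by
    intro v hv h
    obtain ⟨P, hP⟩ := f.surjective (Projectivization.mk F v hv)
    have hPi : AtInf P := (atInf_iff f hcol hfix P).1 (by rw [hP, atInf_mk]; exact h)
    induction P using Projectivization.ind with
    | _ u hu =>
      have h' := hS (Projectivization.mk F u hu)
      rw [transGL_inf a hu ((atInf_mk hu).1 hPi), hP] at h'
      exact h'.symm
  set M : Matrix (Fin (k + 1)) (Fin (k + 1)) F := ↑S with hMdef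
  have heig : ∀ v : Fin (k + 1) → F, v (Fin.last k) = 0 → ∃ c : F, M *ᵥ v = c • v := by
    intro v h
    rcases eq_or_ne v 0 with rfl | hv
    · exact ⟨0, by simp⟩
    have h' := hSinf v hv h
    rw [gl_smul_mk] at h'
    obtain ⟨c, hc⟩ := (mk_eq_mk_iff' F _ _ _ _).1 h'
    exact ⟨c, hc.symm⟩
  let i₀ : Fin (k + 1) := (⟨0, hk⟩ : Fin k).castSucc
  obtain ⟨c, hc⟩ := heig (Pi.single i₀ 1) (by simp [i₀, Pi.single_apply, (Fin.castSucc_lt_last _).ne']; omega)
  have hcs : ∀ j : Fin k, M *ᵥ Pi.single j.castSucc 1 = c • Pi.single j.castSucc (1 : F) := by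
    intro j
    obtain ⟨d, hd⟩ := heig (Pi.single j.castSucc 1) (by simp [Pi.single_apply, (Fin.castSucc_lt_last _).ne'])
    rcases eq_or_ne j.castSucc i₀ with he | he
    · rw [he]; exact hc
    obtain ⟨e, hee⟩ := heig (Pi.single j.castSucc 1 + Pi.single i₀ 1)
      (by simp [i₀, Pi.single_apply, (Fin.castSucc_lt_last _).ne']; omega)
    rw [Matrix.mulVec_add, hd, hc, smul_add] at hee
    have e1 := congrFun hee j.castSucc
    have e2 := congrFun hee i₀
    simp [he, he.symm] at e1 e2
    rw [hd, e1, e2]
  set b := M *ᵥ Pi.single (Fin.last k) (1 : F)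
  have hact : ∀ y : Fin k → F, M *ᵥ emb y = c • (Fin.snoc y 0 : Fin (k + 1) → F) + b := by
    intro y
    have hy : emb y = (∑ j, y j • Pi.single j.castSucc (1 : F)) + Pi.single (Fin.last k) 1 := by
      funext i
      refine Fin.lastCases ?_ (fun j => ?_) i
      · simp [emb, Finset.sum_apply, Pi.single_apply, (Fin.castSucc_lt_last _).ne']
      · simp [emb, Finset.sum_apply, Pi.single_apply, (Fin.castSucc_lt_last _).ne, Fin.castSucc_inj]
    rw [hy, Matrix.mulVec_add, Matrix.mulVec_sum]
    congr 1
    simp only [Matrix.mulVec_smul, hcs, smul_comm _ c, ← Finset.smul_sum]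
    congr 1
    funext i
    refine Fin.lastCases ?_ (fun j => ?_) i
    · simp [Finset.sum_apply, Pi.single_apply, (Fin.castSucc_lt_last _).ne']
    · simp [Finset.sum_apply, Pi.single_apply, Fin.castSucc_inj]
  have hnofix : ∀ y : Fin k → F, S • aff y ≠ aff y := by
    intro y hy
    obtain ⟨P, hP⟩ := f.surjective (aff y)
    obtain ⟨z, rfl⟩ := exists_aff (P := P) fun h => by
      rw [← atInf_iff f hcol hfix, hP, aff, atInf_mk] at h
      simp [emb] at h
    have h' := hS (aff z)
    rw [transGL_aff, hP, hy, ← hP] at h'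
    exact ha (add_eq_left.1 (aff_injective (f.injective h')))
  have hd : b (Fin.last k) = c := by
    by_contra hne
    refine hnofix (fun j => b j.castSucc / (b (Fin.last k) - c)) ?_
    rw [aff, gl_smul_mk]
    refine mk_congr _ _ (b (Fin.last k)) ?_
    rw [← hMdef, hact]
    funext i
    refine Fin.lastCases ?_ (fun j => ?_) i
    · simp [emb]
    · have := sub_ne_zero.2 hne
      simp [emb]; field_simp; ring
  have hc0 : c ≠ 0 := fun h0 => gl_ne_zero S (v := Pi.single i₀ (1 : F)) (by simp) (by rw [← hMdef, hc, h0, zero_smul])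
  have hstep : ∀ y, S • aff y = aff (y + fun j => b j.castSucc / c) := by
    intro y
    rw [aff, gl_smul_mk]
    refine mk_congr _ _ c ?_
    rw [← hMdef, hact]
    funext i
    refine Fin.lastCases ?_ (fun j => ?_) i
    · simp [emb, hd]
    · simp [emb]; field_simp
  have key : ∀ z, φ (z + a) = φ z + fun j => b j.castSucc / c := fun z => aff_injective (by
    rw [← hφ, ← hstep, ← hφ, ← hS, transGL_aff])
  have h0 := key 0
  rw [zero_add, hφ0, zero_add] at h0
  rw [key x, h0]

include hcol hfix in
theorem inf_map (φ : (Fin k → F) → (Fin k → F)) (hinj : Function.Injective φ) (hφ0 : φ 0 = 0)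
    (hφ : ∀ x, f (aff x) = aff (φ x)) {a : Fin k → F} (ha : a ≠ 0)
    (hv : (Fin.snoc a 0 : Fin (k + 1) → F) ≠ 0) (hw : (Fin.snoc (φ a) 0 : Fin (k + 1) → F) ≠ 0) :
    f (Projectivization.mk F (Fin.snoc a 0) hv) = Projectivization.mk F (Fin.snoc (φ a) 0) hw := by
  set R := Projectivization.mk F (Fin.snoc a 0 : Fin (k + 1) → F) hv
  have hle : R.submodule ≤ (aff (0 : Fin k → F)).submodule ⊔ (aff a).submodule := by
    rw [submodule_mk, aff, aff, submodule_mk, submodule_mk, Submodule.span_singleton_le_iff_mem]
    refine Submodule.mem_sup.2 ⟨-emb (0 : Fin k → F), Submodule.neg_mem _ (Submodule.mem_span_singleton_self _),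
      emb a, Submodule.mem_span_singleton_self _, ?_⟩
    funext i
    refine Fin.lastCases ?_ (fun j => ?_) i <;> simp [emb]
  have h := hcol _ _ _ hle
  rw [hφ, hφ, hφ0, aff, aff, submodule_mk, submodule_mk] at h
  have hinf : AtInf (f R) := (atInf_iff f hcol hfix R).2 (by rw [atInf_mk]; simp)
  obtain ⟨u, hu, hfR⟩ : ∃ (u : Fin (k + 1) → F) (hu : u ≠ 0), f R = Projectivization.mk F u hu :=
    ⟨_, _, (mk_rep _).symm⟩
  · rw [hfR, atInf_mk] at hinf
    rw [hfR] at h ⊢
    rw [submodule_mk, Submodule.span_singleton_le_iff_mem, Submodule.mem_sup] at h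
    obtain ⟨y, hy, z, hz, hyz⟩ := h
    obtain ⟨s, rfl⟩ := Submodule.mem_span_singleton.1 hy
    obtain ⟨t, rfl⟩ := Submodule.mem_span_singleton.1 hz
    have hst : s = -t := by
      rw [← hyz] at hinf
      simp [emb] at hinf
      linear_combination hinf
    refine mk_congr _ _ t ?_
    rw [← hyz, hst]
    funext i
    refine Fin.lastCases ?_ (fun j => ?_) i <;> simp [emb]

include hcol hfix in
theorem aff_additive_geom (φ : (Fin k → F) → (Fin k → F)) (hinj : Function.Injective φ) (hφ0 : φ 0 = 0)
    (hφ : ∀ x, f (aff x) = aff (φ x)) (hk : 2 ≤ k) : ∀ x a, φ (x + a) = φ x + φ a := by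
  classical
  have hne : ∀ {a : Fin k → F}, a ≠ 0 → φ a ≠ 0 := fun ha h => ha (hinj (h.trans hφ0.symm))
  have hsn : ∀ {a : Fin k → F}, a ≠ 0 → (Fin.snoc a 0 : Fin (k + 1) → F) ≠ 0 := fun {a} ha h =>
    ha (funext fun i => by simpa using congrFun h i.castSucc)
  have hline : ∀ (a b : Fin k → F) (hb : b ≠ 0), ∃ t : F, φ (a + b) = φ a + t • φ b := by
    intro a b hb
    have hle : (aff (a + b)).submodule ≤ (aff a).submodule ⊔
        (Projectivization.mk F (Fin.snoc b 0 : Fin (k + 1) → F) (hsn hb)).submodule := by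
      rw [aff, aff, submodule_mk, submodule_mk, submodule_mk, Submodule.span_singleton_le_iff_mem]
      refine Submodule.mem_sup.2 ⟨emb a, Submodule.mem_span_singleton_self _, Fin.snoc b 0,
        Submodule.mem_span_singleton_self _, ?_⟩
      funext i
      refine Fin.lastCases ?_ (fun j => ?_) i <;> simp [emb]
    have h := hcol _ _ _ hle
    rw [hφ, hφ, inf_map f hcol hfix φ hinj hφ0 hφ hb (hsn hb) (hsn (hne hb)), aff, aff, submodule_mk, submodule_mk,
      submodule_mk, Submodule.span_singleton_le_iff_mem, Submodule.mem_sup] at h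
    obtain ⟨y, hy, z, hz, e⟩ := h
    obtain ⟨s, rfl⟩ := Submodule.mem_span_singleton.1 hy
    obtain ⟨t, rfl⟩ := Submodule.mem_span_singleton.1 hz
    have hs : s = 1 := by
      have := congrFun e (Fin.last k)
      simpa [emb] using this
    refine ⟨t, funext fun i => ?_⟩
    have := congrFun e i.castSucc
    simpa [emb, hs] using this.symm
  have hindep : ∀ a b : Fin k → F, a ≠ 0 → b ≠ 0 → (∀ c : F, b ≠ c • a) → φ (a + b) = φ a + φ b := by
    intro a b ha hb hab
    have himg : ∀ c : F, φ b ≠ c • φ a := by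
      intro c hc
      have h1 := inf_map f hcol hfix φ hinj hφ0 hφ ha (hsn ha) (hsn (hne ha))
      have h2 := inf_map f hcol hfix φ hinj hφ0 hφ hb (hsn hb) (hsn (hne hb))
      have e : Projectivization.mk F (Fin.snoc (φ b) 0 : Fin (k + 1) → F) (hsn (hne hb)) =
          Projectivization.mk F (Fin.snoc (φ a) 0) (hsn (hne ha)) := mk_congr _ _ c (by
        funext i
        refine Fin.lastCases ?_ (fun j => ?_) i <;> simp [hc])
      rw [← h1, ← h2] at e
      obtain ⟨s, hs⟩ := (mk_eq_mk_iff' F _ _ _ _).1 (f.injective e)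
      refine hab s (funext fun i => ?_)
      have := congrFun hs i.castSucc
      simpa using this.symm
    obtain ⟨t, ht⟩ := hline a b hb
    obtain ⟨s, hs⟩ := hline b a ha
    rw [add_comm b a, ht] at hs
    have h' : (1 - s) • φ a = (1 - t) • φ b := by
      rw [sub_smul, sub_smul, one_smul, one_smul, sub_eq_sub_iff_add_eq_add]
      exact hs
    rcases eq_or_ne t 1 with rfl | ht1
    · rw [ht, one_smul]
    · refine absurd ?_ (himg ((1 - t)⁻¹ * (1 - s)))
      rw [← smul_smul, h', inv_smul_smul₀ (sub_ne_zero.2 (Ne.symm ht1))]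
  intro a b
  rcases eq_or_ne a 0 with rfl | ha
  · rw [zero_add, hφ0, zero_add]
  rcases eq_or_ne b 0 with rfl | hb
  · rw [add_zero, hφ0, add_zero]
  by_cases hab : ∀ c : F, b ≠ c • a
  · exact hindep a b ha hb hab
  push Not at hab
  obtain ⟨c, rfl⟩ := hab
  obtain ⟨e, he⟩ : ∃ e : Fin k → F, ∀ d : F, e ≠ d • a := by
    by_contra hh
    push Not at hh
    obtain ⟨d0, h0⟩ := hh (Pi.single ⟨0, by omega⟩ 1)
    obtain ⟨d1, h1⟩ := hh (Pi.single ⟨1, hk⟩ 1)
    have e0 := congrFun h0 ⟨0, by omega⟩
    have e1 := congrFun h1 ⟨0, by omega⟩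
    have e2 := congrFun h1 ⟨1, hk⟩
    simp [Pi.single_apply] at e0 e1 e2
    rcases e1 with rfl | h
    · simp at e2
    · simp [h] at e0
  have hc : c ≠ 0 := fun h => hb (by rw [h, zero_smul])
  have he0 : e ≠ 0 := fun h => he 0 (by rw [h, zero_smul])
  have he' : ∀ d : F, c • a + e ≠ d • a := fun d h => he (d - c) (by rw [sub_smul, ← h, add_sub_cancel_left])
  have h2 : φ (c • a + e) = φ (c • a) + φ e := hindep _ _ hb he0 fun d h => he (d * c) (by rw [h, smul_smul])
  have h1 : φ (a + (c • a + e)) = φ a + φ (c • a + e) :=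
    hindep _ _ ha (fun h => he' 0 (by rw [zero_smul]; exact h)) he'
  rw [← add_assoc, h2, ← add_assoc] at h1
  rcases eq_or_ne (a + c • a) 0 with h0 | h0
  · rw [h0, zero_add] at h1
    rw [h0, hφ0]
    exact (right_eq_add.1 h1).symm
  · have h3 : φ (a + c • a + e) = φ (a + c • a) + φ e := hindep _ _ h0 he0 fun d h => he (d * (1 + c)) (by
      rw [h, mul_smul, add_smul, one_smul])
    rw [h3] at h1
    exact add_right_cancel h1

end Affine

theorem two_preservesLines (f : Pt F 2 ≃ Pt F 2) : PreservesLines f := by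
  intro P Q R h
  rcases eq_or_ne P Q with rfl | hPQ
  · rw [sup_idem] at h ⊢
    have : R = P := Projectivization.submodule_injective (Submodule.eq_of_le_of_finrank_eq h
      (by rw [finrank_submodule, finrank_submodule]))
    rw [this]
  · have htop : (f P).submodule ⊔ (f Q).submodule = ⊤ := by
      apply Submodule.eq_top_of_finrank_eq
      have hne : (f P).submodule ≠ (f Q).submodule := fun e => hPQ (f.injective (Projectivization.submodule_injective e))
      have h1 := Submodule.finrank_sup_add_finrank_inf_eq (f P).submodule (f Q).submodule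
      rw [finrank_submodule, finrank_submodule] at h1
      have h2 : Module.finrank F ↥((f P).submodule ⊓ (f Q).submodule) = 0 := by
        have hle : Module.finrank F ↥((f P).submodule ⊓ (f Q).submodule) ≤ 1 :=
          (Submodule.finrank_mono inf_le_left).trans (finrank_submodule _).le
        by_contra h0
        have h1' : Module.finrank F ↥((f P).submodule ⊓ (f Q).submodule) = 1 := by omega
        have e1 := Submodule.eq_of_le_of_finrank_eq (inf_le_left : (f P).submodule ⊓ (f Q).submodule ≤ _)
          (by rw [h1', finrank_submodule])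
        have e2 := Submodule.eq_of_le_of_finrank_eq (inf_le_right : (f P).submodule ⊓ (f Q).submodule ≤ _)
          (by rw [h1', finrank_submodule])
        exact hne (e1.symm.trans e2)
      rw [Module.finrank_fintype_fun_eq_card, Fintype.card_fin]
      omega
    rw [htop]; exact le_top

theorem semilinear_fixed {k : ℕ} (hk : 1 ≤ k) (f : Pt F (k + 1) ≃ Pt F (k + 1)) (hcol : PreservesLines f)
    (hnorm : NormalisesSL f ∨ 2 ≤ k)
    (hfix : ∀ i, f (Projectivization.mk F (Pi.single i (1 : F)) (by simp)) = Projectivization.mk F (Pi.single i (1 : F)) (by simp)) :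
    ∃ (A : GL (Fin (k + 1)) F) (σ : F ≃+* F), ∀ (v : Fin (k + 1) → F) (hv : v ≠ 0),
      f (Projectivization.mk F v hv) =
        A • Projectivization.mk F (fun i => σ (v i)) (fun h => hv (funext fun i => σ.injective (by simpa using congrFun h i))) := by
  classical
  obtain ⟨φ, hinj, hφ0, hφ⟩ := exists_aff_map f hcol hfix
  have hadd := hnorm.elim (fun h => aff_additive f hcol h hfix φ hφ0 hφ hk)
    (fun h => aff_additive_geom f hcol hfix φ hinj hφ0 hφ h)
  have hne : ∀ {a : Fin k → F}, a ≠ 0 → φ a ≠ 0 := fun ha h => ha (hinj (h.trans hφ0.symm))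
  have hsn : ∀ {a : Fin k → F}, a ≠ 0 → (Fin.snoc a 0 : Fin (k + 1) → F) ≠ 0 := fun {a} ha h =>
    ha (funext fun i => by simpa using congrFun h i.castSucc)
  have hline : ∀ (c : F) (a : Fin k → F), ∃ d : F, φ (c • a) = d • φ a := by
    intro c a
    rcases eq_or_ne a 0 with rfl | ha
    · exact ⟨1, by rw [smul_zero, hφ0, smul_zero]⟩
    rcases eq_or_ne c 0 with rfl | hc
    · exact ⟨0, by rw [zero_smul, hφ0, zero_smul]⟩
    have hca : c • a ≠ 0 := smul_ne_zero hc ha
    have h1 := inf_map f hcol hfix φ hinj hφ0 hφ ha (hsn ha) (hsn (hne ha))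
    have h2 := inf_map f hcol hfix φ hinj hφ0 hφ hca (hsn hca) (hsn (hne hca))
    have e : Projectivization.mk F (Fin.snoc (c • a) 0 : Fin (k + 1) → F) (hsn hca) =
        Projectivization.mk F (Fin.snoc a 0) (hsn ha) := mk_congr _ _ c (by
      funext i
      refine Fin.lastCases ?_ (fun j => ?_) i <;> simp)
    rw [e, h1] at h2
    obtain ⟨d, hd⟩ := (mk_eq_mk_iff' F _ _ _ _).1 h2.symm
    refine ⟨d, funext fun i => ?_⟩
    simpa using (congrFun hd i.castSucc).symm
  choose S hS using hline
  let e₀ : Fin k → F := Pi.single ⟨0, hk⟩ 1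
  have he₀ : e₀ ≠ 0 := by simp [e₀]
  set σ₀ : F → F := fun c => S c e₀
  have hσadd : ∀ c d, σ₀ (c + d) = σ₀ c + σ₀ d := fun c d => by
    apply smul_left_injective F (hne he₀)
    show σ₀ (c + d) • φ e₀ = (σ₀ c + σ₀ d) • φ e₀
    rw [← hS, add_smul, hadd, hS, hS, add_smul]
  have hσ1 : σ₀ 1 = 1 := by
    apply smul_left_injective F (hne he₀)
    show σ₀ 1 • φ e₀ = (1 : F) • φ e₀
    rw [← hS, one_smul, one_smul]
  have hσ0 : σ₀ 0 = 0 := by
    apply smul_left_injective F (hne he₀)
    show σ₀ 0 • φ e₀ = (0 : F) • φ e₀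
    rw [← hS, zero_smul, hφ0, zero_smul]
  -- semilinearity
  obtain ⟨hmul, hall⟩ : (∀ c d, σ₀ (c * d) = σ₀ c * σ₀ d) ∧ ∀ c a, φ (c • a) = σ₀ c • φ a := by
    rcases Nat.lt_or_ge k 2 with hk2 | hk2
    · obtain rfl : k = 1 := by omega
      have hnorm := hnorm.resolve_right (by omega)
      have hscal : ∀ a : Fin 1 → F, a = a 0 • e₀ := fun a => funext fun i => by
        rw [Fin.eq_zero i]; simp [e₀]
      have hsq : ∀ u : F, u ≠ 0 → ∀ x, σ₀ (u * u * x) = σ₀ (u * u) * σ₀ x := by
        intro u hu
        let T : GL (Fin 2) F := Matrix.GeneralLinearGroup.mk'' (Matrix.diagonal ![u, u⁻¹]) (by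
          rw [Matrix.det_diagonal, Fin.prod_univ_two]; simp [hu])
        obtain ⟨M, hM⟩ := hnorm T (by
          show (Matrix.diagonal ![u, u⁻¹]).det = 1
          rw [Matrix.det_diagonal, Fin.prod_univ_two]; simp [hu])
        have hTe : ∀ i : Fin 2, T • Projectivization.mk F (Pi.single i (1 : F) : Fin 2 → F) (by simp) =
            Projectivization.mk F (Pi.single i (1 : F) : Fin 2 → F) (by simp) := fun i => by
          rw [gl_smul_mk]
          refine mk_congr _ _ (![u, u⁻¹] i) ?_
          show _ = Matrix.diagonal ![u, u⁻¹] *ᵥ Pi.single i 1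
          funext j
          rw [Matrix.mulVec_diagonal]
          by_cases h : j = i <;> simp [h]
        have hMe : ∀ i : Fin 2, ∃ c : F, (M : Matrix (Fin 2) (Fin 2) F) *ᵥ (Pi.single i (1 : F) : Fin 2 → F) =
            c • (Pi.single i (1 : F) : Fin 2 → F) := fun i => by
          have h := hM (Projectivization.mk F (Pi.single i (1 : F) : Fin 2 → F) (by simp))
          rw [hTe, hfix, gl_smul_mk] at h
          obtain ⟨c, hc⟩ := (mk_eq_mk_iff' F _ _ _ _).1 h.symm
          exact ⟨c, hc.symm⟩
        obtain ⟨c0, hc0⟩ := hMe 0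
        obtain ⟨c1, hc1⟩ := hMe 1
        have hc1' : c1 ≠ 0 := fun h0 => gl_ne_zero M (v := Pi.single 1 (1 : F)) (by simp) (by rw [hc1, h0, zero_smul])
        have hMx : ∀ y : Fin 1 → F, M • aff y = aff ((c0 / c1) • y) := fun y => by
          rw [aff, gl_smul_mk]
          refine mk_congr _ _ c1 ?_
          have hy : emb y = y 0 • Pi.single (0 : Fin 2) (1 : F) + Pi.single 1 1 := by
            funext i; fin_cases i <;> simp [emb, Fin.snoc]
          rw [hy, Matrix.mulVec_add, Matrix.mulVec_smul, hc0, hc1]
          funext i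
          fin_cases i <;> simp [emb, Fin.snoc] <;> field_simp
        have hTx : ∀ y : Fin 1 → F, T • aff y = aff ((u * u) • y) := fun y => by
          rw [aff, gl_smul_mk]
          refine mk_congr _ _ u⁻¹ ?_
          show _ = Matrix.diagonal ![u, u⁻¹] *ᵥ emb y
          funext i
          rw [Matrix.mulVec_diagonal]
          fin_cases i <;> simp [emb, Fin.snoc] <;> field_simp
        have key : ∀ x : F, σ₀ (u * u * x) = c0 / c1 * σ₀ x := fun x => by
          have h := hM (aff (x • e₀))
          rw [hTx, hφ, hφ, hMx, smul_smul] at h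
          have h' := aff_injective h
          rw [hS, hS, smul_smul] at h'
          exact smul_left_injective F (hne he₀) h'
        intro x
        have h1 := key 1
        rw [mul_one, hσ1, mul_one] at h1
        rw [key x, h1]
      have hneg : ∀ c, σ₀ (-c) = -σ₀ c := fun c => eq_neg_of_add_eq_zero_left (by rw [← hσadd, neg_add_cancel, hσ0])
      have hmul : ∀ c d, σ₀ (c * d) = σ₀ c * σ₀ d := by
        intro c d
        letI : Fintype F := Fintype.ofFinite F
        obtain ⟨u, v, rfl⟩ : ∃ u v : F, c = u ^ 2 + v ^ 2 := by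
          by_cases h2 : ringChar F = 2
          · obtain ⟨u, hu⟩ := FiniteField.isSquare_of_char_two h2 c
            exact ⟨u, 0, by rw [hu]; ring⟩
          · open Polynomial in
            obtain ⟨u, v, h⟩ := FiniteField.exists_root_sum_quadratic (R := F)
              (f := C (1 : F) * X ^ 2 + C 0 * X + C 0) (g := C (1 : F) * X ^ 2 + C 0 * X + C (-c))
              (degree_quadratic one_ne_zero) (degree_quadratic one_ne_zero) (FiniteField.odd_card_of_char_ne_two h2)
            simp at h
            exact ⟨u, v, by linear_combination -h⟩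
        rw [add_mul, hσadd, hσadd, add_mul]
        congr 1
        · rcases eq_or_ne u 0 with rfl | hu
          · simp [hσ0]
          · rw [pow_two]; exact hsq u hu d
        · rcases eq_or_ne v 0 with rfl | hv
          · simp [hσ0]
          · rw [pow_two]; exact hsq v hv d
      refine ⟨hmul, fun c a => ?_⟩
      rw [hscal a, smul_smul, hS, hS, smul_smul]
      exact congrArg (· • φ e₀) (hmul c (a 0))
    · have hind : ∀ (a b : Fin k → F), φ a ≠ 0 → (∀ t : F, φ b ≠ t • φ a) → ∀ c, S c a = S c b := by
        intro a b ha hb c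
        have h := hS c (a + b)
        rw [smul_add, hadd, hadd, hS, hS, smul_add] at h
        have h1 : (S c a - S c (a + b)) • φ a = (S c (a + b) - S c b) • φ b := by
          rw [sub_smul, sub_smul, sub_eq_sub_iff_add_eq_add]
          exact h.trans (add_comm _ _)
        by_cases h2 : S c (a + b) - S c b = 0
        · rw [h2, zero_smul, smul_eq_zero] at h1
          exact (sub_eq_zero.1 (h1.resolve_right ha)).trans (sub_eq_zero.1 h2)
        · exact absurd (by rw [← smul_smul, h1, inv_smul_smul₀ h2] : φ b = ((S c (a + b) - S c b)⁻¹ * (S c a - S c (a + b))) • φ a) (hb _)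
      obtain ⟨e₁, he₁⟩ : ∃ e₁ : Fin k → F, ∀ t : F, φ e₁ ≠ t • φ e₀ := by
        let e1 : Fin k → F := Pi.single ⟨1, hk2⟩ 1
        refine ⟨e1, fun t ht => ?_⟩
        rcases eq_or_ne t 0 with rfl | ht0
        · rw [zero_smul] at ht; exact hne (by simp [e1]) ht
        · have e1ne : e1 ≠ 0 := by simp [e1]
          have h1 := inf_map f hcol hfix φ hinj hφ0 hφ he₀ (hsn he₀) (hsn (hne he₀))
          have h2 := inf_map f hcol hfix φ hinj hφ0 hφ e1ne (hsn e1ne) (hsn (hne e1ne))
          have e : Projectivization.mk F (Fin.snoc (φ e1) 0 : Fin (k + 1) → F) (hsn (hne e1ne)) =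
              Projectivization.mk F (Fin.snoc (φ e₀) 0) (hsn (hne he₀)) := mk_congr _ _ t (by
            funext i
            refine Fin.lastCases ?_ (fun j => ?_) i <;> simp [ht])
          rw [← h1, ← h2] at e
          obtain ⟨s, hs⟩ := (mk_eq_mk_iff' F _ _ _ _).1 (f.injective e)
          have := congrFun hs (⟨1, hk2⟩ : Fin k).castSucc
          rw [Pi.smul_apply, Fin.snoc_castSucc, Fin.snoc_castSucc] at this
          simp [e1, e₀, Pi.single_apply] at this
      have hconst : ∀ c a, φ (c • a) = σ₀ c • φ a := by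
        intro c a
        rcases eq_or_ne a 0 with rfl | ha
        · rw [smul_zero, hφ0, smul_zero]
        rw [hS]
        congr 1
        by_cases h : ∃ t : F, φ a = t • φ e₀
        · obtain ⟨t, ht⟩ := h
          have ht0 : t ≠ 0 := fun h0 => hne ha (by rw [ht, h0, zero_smul])
          have h1 : ∀ s : F, φ e₁ ≠ s • φ a := fun s hs => he₁ (s * t) (by rw [hs, ht, smul_smul])
          rw [hind a e₁ (hne ha) h1 c]
          exact (hind e₀ e₁ (hne he₀) he₁ c).symm
        · push Not at h
          exact (hind e₀ a (hne he₀) h c).symm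
      refine ⟨fun c d => ?_, hconst⟩
      apply smul_left_injective F (hne he₀)
      show σ₀ (c * d) • φ e₀ = (σ₀ c * σ₀ d) • φ e₀
      rw [← hconst, mul_smul, hconst, hconst, smul_smul]
  let σh : F →+* F := { toFun := σ₀, map_one' := hσ1, map_mul' := hmul, map_zero' := hσ0, map_add' := hσadd }
  have hσbij : Function.Bijective σh := Finite.injective_iff_bijective.1 σh.injective
  let σ : F ≃+* F := RingEquiv.ofBijective σh hσbij
  -- the matrix
  let B : Matrix (Fin (k + 1)) (Fin (k + 1)) F := Matrix.of fun i j =>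
    Fin.lastCases (if i = Fin.last k then 1 else 0) (fun j' => (Fin.snoc (φ (Pi.single j' 1)) 0 : Fin (k + 1) → F) i) j
  have hφsum : ∀ (s : Finset (Fin k)) (x : Fin k → F),
      φ (∑ j ∈ s, x j • Pi.single j (1 : F)) = ∑ j ∈ s, σ (x j) • φ (Pi.single j 1) := by
    intro s x
    induction s using Finset.induction with
    | empty => simp [hφ0]
    | insert j s hj ih => rw [Finset.sum_insert hj, Finset.sum_insert hj, hadd, ih, hall]; rfl
  have hB : ∀ (x : Fin k → F) (t : F),
      B *ᵥ (fun i => σ ((Fin.snoc x t : Fin (k + 1) → F) i)) = Fin.snoc (φ x) (σ t) := by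
    intro x t
    have hx : φ x = ∑ j, σ (x j) • φ (Pi.single j 1) := by
      conv_lhs => rw [mem_span_single x Finset.univ (fun i hi => absurd (Finset.mem_univ i) hi)]
      exact hφsum _ x
    funext i
    simp only [Matrix.mulVec, dotProduct, B, Matrix.of_apply, Fin.sum_univ_castSucc, Fin.lastCases_castSucc,
      Fin.lastCases_last, Fin.snoc_castSucc, Fin.snoc_last]
    refine Fin.lastCases ?_ (fun i' => ?_) i
    · simp
    · simp [hx, Finset.sum_apply, mul_comm, (Fin.castSucc_lt_last i').ne]
  have hBu : IsUnit B := by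
    rw [← Matrix.mulVec_injective_iff_isUnit]
    have h2 : ∀ v w : Fin (k + 1) → F, B *ᵥ (fun i => σ (v i)) = B *ᵥ (fun i => σ (w i)) → v = w := by
      intro v w h
      rw [← Fin.snoc_init_self v, ← Fin.snoc_init_self w, hB, hB] at h
      rw [← Fin.snoc_init_self v, ← Fin.snoc_init_self w]
      congr 1
      · exact hinj (funext fun i => by simpa using congrFun h i.castSucc)
      · exact σ.injective (by simpa using congrFun h (Fin.last k))
    intro v w h
    have := h2 (fun i => σ.symm (v i)) (fun i => σ.symm (w i)) (by simpa using h)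
    exact funext fun i => σ.symm.injective (congrFun this i)
  refine ⟨hBu.unit, σ, fun v hv => ?_⟩
  rw [gl_smul_mk]
  by_cases hl : v (Fin.last k) = 0
  · set a := Fin.init v
    have ha : a ≠ 0 := fun h => hv (by rw [← Fin.snoc_init_self v, hl, show Fin.init v = 0 from h]; funext i; refine Fin.lastCases ?_ (fun j => ?_) i <;> simp)
    have e : Projectivization.mk F v hv = Projectivization.mk F (Fin.snoc a 0) (hsn ha) :=
      mk_congr _ _ 1 (by rw [one_smul, ← hl, Fin.snoc_init_self])
    rw [e, inf_map f hcol hfix φ hinj hφ0 hφ ha (hsn ha) (hsn (hne ha))]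
    refine mk_congr _ _ 1 ?_
    rw [one_smul, IsUnit.unit_spec]
    have := hB a 0
    rw [map_zero, ← hl, Fin.snoc_init_self, hl] at this
    exact this
  · set x : Fin k → F := fun i => v i.castSucc / v (Fin.last k)
    have hv' : v = v (Fin.last k) • emb x := by
      funext i
      refine Fin.lastCases ?_ (fun j => ?_) i
      · simp [emb]
      · simp [emb, x]; field_simp
    have e : Projectivization.mk F v hv = aff x := mk_congr _ _ (v (Fin.last k)) hv'.symm
    rw [e, hφ]
    refine mk_congr _ _ (σ (v (Fin.last k)))⁻¹ ?_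
    rw [IsUnit.unit_spec]
    have h1 : (fun i => σ (v i)) = σ (v (Fin.last k)) • fun i => σ (emb x i) := by
      funext i
      conv_lhs => rw [hv']
      simp
    rw [h1, Matrix.mulVec_smul, inv_smul_smul₀ (by simpa using hl)]
    have := hB x 1
    rwa [map_one] at this

/-- A line preserving permutation of the points normalising the special linear group is semilinear. -/
theorem exists_semilinear (hn : 2 ≤ n) (f : Pt F n ≃ Pt F n) (hcol : PreservesLines f) (hnorm : NormalisesSL f) :
    ∃ (A : GL (Fin n) F) (σ : F ≃+* F), ∀ (v : Fin n → F) (hv : v ≠ 0),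
      f (Projectivization.mk F v hv) =
        A • Projectivization.mk F (fun i => σ (v i)) (fun h => hv (funext fun i => σ.injective (by simpa using congrFun h i))) := by
  obtain ⟨k, rfl⟩ : ∃ k, n = k + 1 := ⟨n - 1, by omega⟩
  obtain ⟨A, hA⟩ := exists_frame f hcol
  let f' : Pt F (k + 1) ≃ Pt F (k + 1) := f.trans (MulAction.toPerm A⁻¹)
  have hcol' : PreservesLines f' := by
    intro P Q R h
    have h' := hcol P Q R h
    have key : ∀ Z : Pt F (k + 1), (A⁻¹ • Z).submodule =
        Z.submodule.map (Matrix.toLin' ((A⁻¹ : GL (Fin (k + 1)) F) : Matrix (Fin (k + 1)) (Fin (k + 1)) F)) := fun Z => by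
      induction Z using Projectivization.ind with
      | _ u hu => rw [gl_smul_mk, submodule_mk, submodule_mk, Submodule.map_span, Set.image_singleton]; rfl
    show (A⁻¹ • f R).submodule ≤ (A⁻¹ • f P).submodule ⊔ (A⁻¹ • f Q).submodule
    rw [key, key, key, ← Submodule.map_sup]
    exact Submodule.map_mono h'
  have hnorm' : NormalisesSL f' := by
    intro T hT
    obtain ⟨S, hS⟩ := hnorm T hT
    refine ⟨A⁻¹ * S * A, fun P => ?_⟩
    show A⁻¹ • f (T • P) = (A⁻¹ * S * A) • A⁻¹ • f P
    rw [hS, smul_smul, smul_smul, mul_inv_cancel_right]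
  have hfix : ∀ i, f' (Projectivization.mk F (Pi.single i (1 : F)) (by simp)) =
      Projectivization.mk F (Pi.single i (1 : F)) (by simp) := fun i => by
    show A⁻¹ • f _ = _
    rw [hA, inv_smul_smul]
  obtain ⟨B, σ, h⟩ := semilinear_fixed (by omega) f' hcol' (Or.inl hnorm') hfix
  refine ⟨A * B, σ, fun v hv => ?_⟩
  rw [mul_smul, ← h v hv]
  show f _ = A • A⁻¹ • f _
  rw [smul_inv_smul]

/-- A line preserving permutation of the points of a space of dimension at least three is semilinear. -/
theorem exists_semilinear_of_three (hn : 3 ≤ n) (f : Pt F n ≃ Pt F n) (hcol : PreservesLines f) :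
    ∃ (A : GL (Fin n) F) (σ : F ≃+* F), ∀ (v : Fin n → F) (hv : v ≠ 0),
      f (Projectivization.mk F v hv) =
        A • Projectivization.mk F (fun i => σ (v i)) (fun h => hv (funext fun i => σ.injective (by simpa using congrFun h i))) := by
  obtain ⟨k, rfl⟩ : ∃ k, n = k + 1 := ⟨n - 1, by omega⟩
  obtain ⟨A, hA⟩ := exists_frame f hcol
  let f' : Pt F (k + 1) ≃ Pt F (k + 1) := f.trans (MulAction.toPerm A⁻¹)
  have hcol' : PreservesLines f' := by
    intro P Q R h
    have h' := hcol P Q R h
    have key : ∀ Z : Pt F (k + 1), (A⁻¹ • Z).submodule =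
        Z.submodule.map (Matrix.toLin' ((A⁻¹ : GL (Fin (k + 1)) F) : Matrix (Fin (k + 1)) (Fin (k + 1)) F)) := fun Z => by
      induction Z using Projectivization.ind with
      | _ u hu => rw [gl_smul_mk, submodule_mk, submodule_mk, Submodule.map_span, Set.image_singleton]; rfl
    show (A⁻¹ • f R).submodule ≤ (A⁻¹ • f P).submodule ⊔ (A⁻¹ • f Q).submodule
    rw [key, key, key, ← Submodule.map_sup]
    exact Submodule.map_mono h'
  have hfix : ∀ i, f' (Projectivization.mk F (Pi.single i (1 : F)) (by simp)) =
      Projectivization.mk F (Pi.single i (1 : F)) (by simp) := fun i => by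
    show A⁻¹ • f _ = _
    rw [hA, inv_smul_smul]
  obtain ⟨B, σ, h⟩ := semilinear_fixed (by omega) f' hcol' (Or.inr (by omega)) hfix
  refine ⟨A * B, σ, fun v hv => ?_⟩
  rw [mul_smul, ← h v hv]
  show f _ = A • A⁻¹ • f _
  rw [smul_inv_smul]

end CfsgLib.KnownC.AutPSL
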