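import Cfsg.Prelude.Def_LieTypeDatum
import Cfsg.Agent.Lib.KnownC.AutPSL.Semilinear

set_option autoImplicit false
set_option linter.unusedSectionVars false

/-! Automorphisms of `PSL_n` induced by semilinear maps and by inverse transpose. -/

namespace CfsgLib.KnownC.AutPSL

open Projectivization Matrix

variable {F : Type*} [Field F] {n : ℕ}

local notation "SLn" => Matrix.SpecialLinearGroup (Fin n) F
local notation "PSLn" => Matrix.ProjectiveSpecialLinearGroup (Fin n) F

theorem coe_toGL (s : SLn) :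
    ((Matrix.SpecialLinearGroup.toGL s : GL (Fin n) F) : Matrix (Fin n) (Fin n) F) = s := rfl

/-- An element of `SL_n` from a matrix of determinant one in `GL_n`. -/
def ofGL (g : GL (Fin n) F) (h : (g : Matrix (Fin n) (Fin n) F).det = 1) : SLn := ⟨g, h⟩

theorem sigma_det (σ : F ≃+* F) (s : SLn) : ((s : Matrix (Fin n) (Fin n) F).map σ).det = 1 := by
  have h := (RingHom.map_det σ.toRingHom (s : Matrix (Fin n) (Fin n) F)).symm
  rw [s.2, map_one] at h
  exact h

theorem conj_det (A : GL (Fin n) F) (σ : F ≃+* F) (s : SLn) :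
    ((A : Matrix (Fin n) (Fin n) F) * (s : Matrix (Fin n) (Fin n) F).map σ *
      ((A⁻¹ : GL (Fin n) F) : Matrix (Fin n) (Fin n) F)).det = 1 := by
  rw [Matrix.det_mul, Matrix.det_mul, sigma_det, mul_one, ← Matrix.det_mul, ← Units.val_mul, mul_inv_cancel,
    Units.val_one, Matrix.det_one]

theorem map_map_symm (σ : F ≃+* F) (M : Matrix (Fin n) (Fin n) F) : (M.map σ).map σ.symm = M := by
  ext i j; simp

theorem map_symm_map (σ : F ≃+* F) (M : Matrix (Fin n) (Fin n) F) : (M.map σ.symm).map σ = M := by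
  ext i j; simp

/-- `s ↦ A σ(s) A⁻¹`. -/
def semiSL (A : GL (Fin n) F) (σ : F ≃+* F) : SLn ≃* SLn where
  toFun s := ⟨(A : Matrix (Fin n) (Fin n) F) * (s : Matrix (Fin n) (Fin n) F).map σ *
    ((A⁻¹ : GL (Fin n) F) : Matrix (Fin n) (Fin n) F), conj_det A σ s⟩
  invFun s := ⟨((((A⁻¹ : GL (Fin n) F) : Matrix (Fin n) (Fin n) F) * (s : Matrix (Fin n) (Fin n) F) *
    (A : Matrix (Fin n) (Fin n) F)).map σ.symm : Matrix (Fin n) (Fin n) F), by
      have h : ((((A⁻¹ : GL (Fin n) F) : Matrix (Fin n) (Fin n) F) * (s : Matrix (Fin n) (Fin n) F) *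
          (A : Matrix (Fin n) (Fin n) F))).det = 1 := by
        rw [Matrix.det_mul, Matrix.det_mul, s.2, mul_one, ← Matrix.det_mul, ← Units.val_mul, inv_mul_cancel,
          Units.val_one, Matrix.det_one]
      have h' := (RingHom.map_det σ.symm.toRingHom (((A⁻¹ : GL (Fin n) F) : Matrix (Fin n) (Fin n) F) *
        (s : Matrix (Fin n) (Fin n) F) * (A : Matrix (Fin n) (Fin n) F))).symm
      rw [h, map_one] at h'
      exact h'⟩
  left_inv s := Subtype.ext (by
    show ((((A⁻¹ : GL (Fin n) F) : Matrix (Fin n) (Fin n) F) * ((A : Matrix (Fin n) (Fin n) F) * (s : Matrix (Fin n) (Fin n) F).map σ *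
      ((A⁻¹ : GL (Fin n) F) : Matrix (Fin n) (Fin n) F)) * (A : Matrix (Fin n) (Fin n) F))).map σ.symm = _
    rw [Matrix.mul_assoc (A : Matrix (Fin n) (Fin n) F), Units.inv_mul_cancel_left, Units.inv_mul_cancel_right,
      map_map_symm])
  right_inv s := Subtype.ext (by
    show (A : Matrix (Fin n) (Fin n) F) * (((((A⁻¹ : GL (Fin n) F) : Matrix (Fin n) (Fin n) F) * (s : Matrix (Fin n) (Fin n) F) *
      (A : Matrix (Fin n) (Fin n) F))).map σ.symm).map σ * _ = _
    rw [map_symm_map, Matrix.mul_assoc ((A⁻¹ : GL (Fin n) F) : Matrix (Fin n) (Fin n) F), Units.mul_inv_cancel_left,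
      Units.mul_inv_cancel_right])
  map_mul' s t := Subtype.ext (by
    show (A : Matrix (Fin n) (Fin n) F) * ((s * t : SLn) : Matrix (Fin n) (Fin n) F).map σ * _ =
      ((A : Matrix (Fin n) (Fin n) F) * (s : Matrix (Fin n) (Fin n) F).map σ * _) *
      ((A : Matrix (Fin n) (Fin n) F) * (t : Matrix (Fin n) (Fin n) F).map σ * _)
    rw [Matrix.SpecialLinearGroup.coe_mul, Matrix.map_mul]
    simp only [Matrix.mul_assoc, Units.inv_mul_cancel_left])

/-- Transpose of the inverse. -/
def itFun (s : SLn) : SLn :=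
  ⟨((s⁻¹ : SLn) : Matrix (Fin n) (Fin n) F).transpose, by rw [Matrix.det_transpose]; exact (s⁻¹).2⟩

theorem itFun_itFun (s : SLn) : itFun (itFun s) = s := by
  have h : (itFun s)⁻¹ = ⟨(s : Matrix (Fin n) (Fin n) F).transpose, by rw [Matrix.det_transpose]; exact s.2⟩ := by
    refine inv_eq_of_mul_eq_one_right (Subtype.ext ?_)
    show ((s⁻¹ : SLn) : Matrix (Fin n) (Fin n) F).transpose * (s : Matrix (Fin n) (Fin n) F).transpose = _
    rw [← Matrix.transpose_mul, ← Matrix.SpecialLinearGroup.coe_mul, mul_inv_cancel,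
      Matrix.SpecialLinearGroup.coe_one, Matrix.transpose_one]
  refine Subtype.ext ?_
  show (((itFun s)⁻¹ : SLn) : Matrix (Fin n) (Fin n) F).transpose = _
  rw [h]
  exact Matrix.transpose_transpose _

/-- The inverse transpose. -/
def itSL : SLn ≃* SLn where
  toFun := itFun
  invFun := itFun
  left_inv := itFun_itFun
  right_inv := itFun_itFun
  map_mul' s t := Subtype.ext (by
    show ((s * t)⁻¹ : SLn).1.transpose = (s⁻¹ : SLn).1.transpose * (t⁻¹ : SLn).1.transpose
    rw [← Matrix.transpose_mul, ← Matrix.SpecialLinearGroup.coe_mul, _root_.mul_inv_rev])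

theorem center_map (e : SLn ≃* SLn) : (Subgroup.center SLn).map e.toMonoidHom = Subgroup.center SLn := by
  ext x
  constructor
  · rintro ⟨y, hy, rfl⟩
    refine Subgroup.mem_center_iff.2 fun z => ?_
    apply e.symm.injective
    rw [map_mul, map_mul, MulEquiv.coe_toMonoidHom, e.symm_apply_apply]
    exact Subgroup.mem_center_iff.1 hy _
  · intro hx
    refine ⟨e.symm x, Subgroup.mem_center_iff.2 fun z => ?_, e.apply_symm_apply x⟩
    apply e.injective
    rw [map_mul, map_mul, e.apply_symm_apply]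
    exact Subgroup.mem_center_iff.1 hx _

/-- Passing to the central quotient. -/
def toPSL (e : SLn ≃* SLn) : MulAut PSLn := QuotientGroup.congr _ _ e (center_map e)

theorem toPSL_mk (e : SLn ≃* SLn) (s : SLn) : toPSL e (QuotientGroup.mk s) = QuotientGroup.mk (e s) := rfl

/-- The automorphism induced by a semilinear map. -/
def semiAut (A : GL (Fin n) F) (σ : F ≃+* F) : MulAut PSLn := toPSL (semiSL A σ)

/-- The inverse transpose automorphism. -/
def itAut : MulAut PSLn := toPSL itSL

theorem semiAut_mk (A : GL (Fin n) F) (σ : F ≃+* F) (s : SLn) :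
    semiAut A σ (QuotientGroup.mk s) = QuotientGroup.mk (semiSL A σ s) := rfl

theorem semiSL_coe (A : GL (Fin n) F) (σ : F ≃+* F) (s : SLn) :
    ((semiSL A σ s : SLn) : Matrix (Fin n) (Fin n) F) = (A : Matrix (Fin n) (Fin n) F) *
      (s : Matrix (Fin n) (Fin n) F).map σ * ((A⁻¹ : GL (Fin n) F) : Matrix (Fin n) (Fin n) F) := rfl

theorem semi_induced (A : GL (Fin n) F) (σ : F ≃+* F) : Cfsg.IsInducedBySemilinearPSL A σ (semiAut A σ) := by
  intro s s' h
  rw [semiAut_mk]
  exact congrArg _ (Subtype.ext h.symm)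

theorem induced_eq {A : GL (Fin n) F} {σ : F ≃+* F} {β : MulAut PSLn} (h : Cfsg.IsInducedBySemilinearPSL A σ β) :
    β = semiAut A σ := by
  refine MulEquiv.ext fun x => ?_
  induction x using QuotientGroup.induction_on with
  | _ s => exact h s _ rfl

theorem innDiag_iff (β : MulAut PSLn) : Cfsg.IsInnerDiagonalAutPSL β ↔ ∃ A, β = semiAut A (RingEquiv.refl F) := by
  constructor
  · rintro ⟨A, h⟩
    exact ⟨A, induced_eq fun s s' e => h s s' (e.trans (by simp))⟩
  · rintro ⟨A, rfl⟩
    exact ⟨A, fun s s' e => semi_induced A _ s s' (e.trans (by simp))⟩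

theorem stdField_iff (σ : F ≃+* F) (β : MulAut PSLn) : Cfsg.IsStdFieldAutPSL σ β ↔ β = semiAut 1 σ := by
  constructor
  · intro h
    exact induced_eq fun s s' e => h s s' (e.trans (by simp))
  · rintro rfl
    exact fun s s' e => semi_induced 1 σ s s' (e.trans (by simp))

theorem invTranspose_iff (β : MulAut PSLn) : Cfsg.IsInverseTransposeAutPSL β ↔ β = itAut := by
  constructor
  · intro h
    refine MulEquiv.ext fun x => ?_
    induction x using QuotientGroup.induction_on with
    | _ s => exact h s _ rfl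
  · rintro rfl s s' e
    exact congrArg _ (Subtype.ext e.symm)

theorem semiAut_mul (A B : GL (Fin n) F) (σ τ : F ≃+* F) :
    semiAut A σ * semiAut B τ = semiAut (A * Matrix.GeneralLinearGroup.map σ.toRingHom B) (τ.trans σ) := by
  refine MulEquiv.ext fun x => ?_
  induction x using QuotientGroup.induction_on with
  | _ s =>
    show semiAut A σ (semiAut B τ (QuotientGroup.mk s)) = _
    rw [semiAut_mk, semiAut_mk, semiAut_mk]
    refine congrArg _ (Subtype.ext ?_)
    rw [semiSL_coe, semiSL_coe, semiSL_coe, Matrix.map_mul, Matrix.map_mul, _root_.mul_inv_rev, Units.val_mul, Units.val_mul,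
      Matrix.map_map, ← map_inv]
    simp only [Matrix.mul_assoc]
    rfl

theorem semiAut_one : semiAut (1 : GL (Fin n) F) (RingEquiv.refl F) = 1 := by
  refine MulEquiv.ext fun x => ?_
  induction x using QuotientGroup.induction_on with
  | _ s =>
    rw [semiAut_mk]
    refine congrArg _ (Subtype.ext ?_)
    rw [semiSL_coe]; simp

theorem itAut_sq : (itAut : MulAut PSLn) * itAut = 1 := by
  refine MulEquiv.ext fun x => ?_
  induction x using QuotientGroup.induction_on with
  | _ s =>
    show itAut (itAut (QuotientGroup.mk s)) = _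
    exact congrArg QuotientGroup.mk (itSL.left_inv s)

/-- The inverse transpose of an invertible matrix. -/
noncomputable def itGL (A : GL (Fin n) F) : GL (Fin n) F :=
  ⟨((A⁻¹ : GL (Fin n) F) : Matrix (Fin n) (Fin n) F).transpose, (A : Matrix (Fin n) (Fin n) F).transpose, by
    rw [← Matrix.transpose_mul, ← Units.val_mul, mul_inv_cancel, Units.val_one, Matrix.transpose_one], by
    rw [← Matrix.transpose_mul, ← Units.val_mul, inv_mul_cancel, Units.val_one, Matrix.transpose_one]⟩

theorem it_semi (A : GL (Fin n) F) (σ : F ≃+* F) : itAut * semiAut A σ = semiAut (itGL A) σ * itAut := by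
  refine MulEquiv.ext fun x => ?_
  induction x using QuotientGroup.induction_on with
  | _ s =>
    show itAut (semiAut A σ (QuotientGroup.mk s)) = semiAut (itGL A) σ (itAut (QuotientGroup.mk s))
    rw [semiAut_mk]
    show QuotientGroup.mk (itSL (semiSL A σ s)) = QuotientGroup.mk (semiSL (itGL A) σ (itSL s))
    refine congrArg _ (Subtype.ext ?_)
    show ((semiSL A σ s)⁻¹ : SLn).1.transpose =
      ((A⁻¹ : GL (Fin n) F) : Matrix (Fin n) (Fin n) F).transpose * ((s⁻¹ : SLn).1.transpose).map σ *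
        (A : Matrix (Fin n) (Fin n) F).transpose
    rw [← map_inv (semiSL A σ), semiSL_coe, Matrix.transpose_mul, Matrix.transpose_mul, Matrix.mul_assoc,
      Matrix.transpose_map]

theorem gamma_eq : Cfsg.gammaPSL n F ≤ Subgroup.closure {β | ∃ A σ, β = semiAut A σ} := by
  refine Subgroup.closure_mono ?_
  rintro β ⟨g, σ, h⟩
  exact ⟨g, σ, induced_eq h⟩

theorem semi_mem_gamma (A : GL (Fin n) F) (σ : F ≃+* F) : semiAut A σ ∈ Cfsg.gammaPSL n F :=
  Subgroup.subset_closure ⟨A, σ, semi_induced A σ⟩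

theorem semi_mem_inndiag (A : GL (Fin n) F) : semiAut A (RingEquiv.refl F) ∈ Cfsg.inndiagPSL n F :=
  Subgroup.subset_closure ((innDiag_iff _).2 ⟨A, rfl⟩)

theorem inndiag_iff_mem (β : MulAut PSLn) : β ∈ Cfsg.inndiagPSL n F ↔ ∃ A, β = semiAut A (RingEquiv.refl F) := by
  refine ⟨fun h => ?_, fun ⟨A, e⟩ => e ▸ semi_mem_inndiag A⟩
  induction h using Subgroup.closure_induction with
  | mem x hx => exact (innDiag_iff x).1 hx
  | one => exact ⟨1, semiAut_one.symm⟩
  | mul x y _ _ hx hy =>
    obtain ⟨A, rfl⟩ := hx; obtain ⟨B, rfl⟩ := hy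
    exact ⟨_, semiAut_mul A B _ _⟩
  | inv x _ hx =>
    obtain ⟨A, rfl⟩ := hx
    refine ⟨A⁻¹, inv_eq_of_mul_eq_one_right ?_⟩
    rw [semiAut_mul, ← semiAut_one]
    congr 1
    rw [show Matrix.GeneralLinearGroup.map (RingEquiv.refl F).toRingHom A⁻¹ = A⁻¹ from Units.ext (Matrix.ext fun i j => rfl),
      mul_inv_cancel]

/-- The action on points of the image. -/
theorem semi_smul (A : GL (Fin n) F) (σ : F ≃+* F) (s : SLn) (v : Fin n → F) :
    ((semiSL A σ s : SLn) : Matrix (Fin n) (Fin n) F) *ᵥ ((A : Matrix (Fin n) (Fin n) F) *ᵥ fun i => σ (v i)) =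
      (A : Matrix (Fin n) (Fin n) F) *ᵥ fun i => σ (((s : Matrix (Fin n) (Fin n) F) *ᵥ v) i) := by
  rw [semiSL_coe, Matrix.mulVec_mulVec, Units.inv_mul_cancel_right, ← Matrix.mulVec_mulVec]
  congr 1
  funext i
  exact (RingHom.map_mulVec σ.toRingHom (s : Matrix (Fin n) (Fin n) F) v i).symm

end CfsgLib.KnownC.AutPSL
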