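import Cfsg.Agent.Lib.KnownC.AutPSL.Induced

set_option autoImplicit false
set_option linter.unusedSectionVars false

/-!
An automorphism of `PSL_n(q)`, composed if need be with inverse transpose, permutes the points.
-/

namespace CfsgLib.KnownC.AutPSL

open Projectivization Matrix MulAction

variable {F : Type*} [Field F] {n : ℕ}

local notation "SLn" => Matrix.SpecialLinearGroup (Fin n) F
local notation "PSLn" => Matrix.ProjectiveSpecialLinearGroup (Fin n) F

theorem sl_ne_zero (s : SLn) {v : Fin n → F} (hv : v ≠ 0) : (s : Matrix (Fin n) (Fin n) F) *ᵥ v ≠ 0 :=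
  gl_ne_zero (Matrix.SpecialLinearGroup.toGL s) hv

theorem psl_smul_mk (s : SLn) {v : Fin n → F} (hv : v ≠ 0) :
    (QuotientGroup.mk s : PSLn) • Projectivization.mk F v hv =
      Projectivization.mk F ((s : Matrix (Fin n) (Fin n) F) *ᵥ v) (sl_ne_zero s hv) :=
  rfl

theorem sl_smul_eq (s : SLn) (P : Pt F n) :
    (QuotientGroup.mk s : PSLn) • P = (Matrix.SpecialLinearGroup.toGL s) • P := by
  induction P using Projectivization.ind with
  | _ v hv => rfl

/-- The stabiliser of a subspace. -/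
def stabSub (W : Submodule F (Fin n → F)) : Subgroup PSLn :=
  Subgroup.map (QuotientGroup.mk' (Subgroup.center SLn))
    { carrier := {s : SLn | W.map (Matrix.toLin' (s : Matrix (Fin n) (Fin n) F)) = W}
      one_mem' := by simp
      mul_mem' := fun {a b} ha hb => by
        show W.map (Matrix.toLin' ((a * b : SLn) : Matrix (Fin n) (Fin n) F)) = W
        rw [Matrix.SpecialLinearGroup.coe_mul, Matrix.toLin'_mul, Submodule.map_comp, hb, ha]
      inv_mem' := fun {a} ha => by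
        show W.map (Matrix.toLin' ((a⁻¹ : SLn) : Matrix (Fin n) (Fin n) F)) = W
        conv_lhs => rw [← ha]
        rw [← Submodule.map_comp, ← Matrix.toLin'_mul, ← Matrix.SpecialLinearGroup.coe_mul, inv_mul_cancel]
        simp }

theorem mk_mem_stabSub_iff (W : Submodule F (Fin n → F)) (s : SLn) :
    (QuotientGroup.mk s : PSLn) ∈ stabSub W ↔ W.map (Matrix.toLin' (s : Matrix (Fin n) (Fin n) F)) = W := by
  refine ⟨?_, fun h => ⟨s, h, rfl⟩⟩
  rintro ⟨t, ht, e⟩
  have hc : t⁻¹ * s ∈ Subgroup.center SLn := QuotientGroup.eq.1 e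
  obtain ⟨r, hr, hsc⟩ := Matrix.SpecialLinearGroup.mem_center_iff.1 hc
  rcases Nat.eq_zero_or_pos n with rfl | hn
  · exact Subsingleton.elim _ _
  have hr0 : r ≠ 0 := fun h0 => by
    rw [h0, Fintype.card_fin, zero_pow hn.ne'] at hr; exact zero_ne_one hr
  have hs : Matrix.toLin' (s : Matrix (Fin n) (Fin n) F) = r • Matrix.toLin' (t : Matrix (Fin n) (Fin n) F) := by
    rw [show s = t * (t⁻¹ * s) by group, Matrix.SpecialLinearGroup.coe_mul, ← hsc, Matrix.toLin'_mul]
    refine LinearMap.ext fun v => ?_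
    simp [Matrix.mulVec_smul, ← Matrix.smul_eq_diagonal_mul, Matrix.scalar_apply]
  rw [hs, Submodule.map_smul _ _ _ hr0]
  exact ht

theorem sl_map_injective (s : SLn) : Function.Injective (Matrix.toLin' (s : Matrix (Fin n) (Fin n) F)) := by
  intro a b h
  have := congrArg (Matrix.toLin' ((s⁻¹ : SLn) : Matrix (Fin n) (Fin n) F)) h
  rwa [← LinearMap.comp_apply, ← LinearMap.comp_apply, ← Matrix.toLin'_mul, ← Matrix.SpecialLinearGroup.coe_mul,
    inv_mul_cancel, Matrix.SpecialLinearGroup.coe_one, Matrix.toLin'_one] at this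

/-- Transvection. -/
def tr (v φ : Fin n → F) (h : φ ⬝ᵥ v = 0) : SLn :=
  ⟨1 + Matrix.vecMulVec v φ, by rw [Matrix.vecMulVec_eq Unit, Matrix.det_one_add_replicateCol_mul_replicateRow, h, add_zero]⟩

theorem tr_mulVec (v φ : Fin n → F) (h : φ ⬝ᵥ v = 0) (x : Fin n → F) :
    ((tr v φ h : SLn) : Matrix (Fin n) (Fin n) F) *ᵥ x = x + (φ ⬝ᵥ x) • v := by
  show (1 + Matrix.vecMulVec v φ) *ᵥ x = _
  rw [Matrix.add_mulVec, Matrix.one_mulVec, Matrix.vecMulVec_mulVec, op_smul_eq_smul]

theorem exists_dual {X : Submodule F (Fin n → F)} {x : Fin n → F} (hx : x ∉ X) :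
    ∃ φ : Fin n → F, φ ⬝ᵥ x = 1 ∧ ∀ y ∈ X, φ ⬝ᵥ y = 0 := by
  obtain ⟨ψ, hψ, hX⟩ := Submodule.exists_dual_map_eq_bot_of_notMem hx inferInstance
  have hdot : ∀ y, (fun i => (ψ x)⁻¹ * ψ (Pi.single i 1)) ⬝ᵥ y = (ψ x)⁻¹ * ψ y := by
    intro y
    conv_rhs => rw [show y = ∑ i, y i • Pi.single i (1 : F) by ext i; simp [Finset.sum_apply, Pi.single_apply],
      map_sum, Finset.mul_sum]
    simp only [dotProduct, map_smul, smul_eq_mul]
    exact Finset.sum_congr rfl fun i _ => by ring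
  refine ⟨_, by rw [hdot, inv_mul_cancel₀ hψ], fun y hy => ?_⟩
  rw [hdot, show ψ y = 0 from (Submodule.eq_bot_iff _).1 hX _ (Submodule.mem_map_of_mem hy), mul_zero]

theorem exists_dual_two {X : Submodule F (Fin n → F)} {x y : Fin n → F} (hx : x ∉ X) (hy : y ∉ X ⊔ (F ∙ x)) :
    ∃ φ : Fin n → F, φ ⬝ᵥ x = 1 ∧ φ ⬝ᵥ y = 0 ∧ ∀ z ∈ X, φ ⬝ᵥ z = 0 := by
  have : x ∉ X ⊔ (F ∙ y) := by
    intro h
    obtain ⟨z, hz, w, hw, e⟩ := Submodule.mem_sup.1 h
    obtain ⟨c, rfl⟩ := Submodule.mem_span_singleton.1 hw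
    rcases eq_or_ne c 0 with rfl | hc
    · exact hx (by rw [← e]; simpa using hz)
    · refine hy (Submodule.mem_sup.2 ⟨-(c⁻¹ • z), X.neg_mem (X.smul_mem _ hz), c⁻¹ • x,
        Submodule.smul_mem _ _ (Submodule.mem_span_singleton_self x), ?_⟩)
      rw [← e]
      match_scalars <;> field_simp <;> ring
  obtain ⟨φ, h1, h2⟩ := exists_dual this
  exact ⟨φ, h1, h2 y (Submodule.mem_sup_right (Submodule.mem_span_singleton_self y)),
    fun z hz => h2 z (Submodule.mem_sup_left hz)⟩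

variable [Finite F]

theorem exists_fixed_subspace (hn : 2 ≤ n) (α : MulAut PSLn) (P0 : Pt F n) :
    ∃ W : Submodule F (Fin n → F), W ≠ ⊥ ∧ W ≠ ⊤ ∧ (stabilizer PSLn P0).map α.toMonoidHom ≤ stabSub W := by
  classical
  letI : Fintype F := Fintype.ofFinite F
  obtain ⟨p, _⟩ := CharP.exists F
  haveI hp : Fact p.Prime := ⟨CharP.char_is_prime F p⟩
  set v0 := P0.rep
  have hv0 : v0 ≠ 0 := rep_nonzero P0
  let U : Subgroup SLn :=
    { carrier := {s | (s : Matrix (Fin n) (Fin n) F) *ᵥ v0 = v0 ∧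
        ∀ v, (s : Matrix (Fin n) (Fin n) F) *ᵥ v - v ∈ (F ∙ v0)}
      one_mem' := by simp
      mul_mem' := fun {a b} ha hb => by
        refine ⟨by rw [Matrix.SpecialLinearGroup.coe_mul, ← Matrix.mulVec_mulVec, hb.1, ha.1], fun v => ?_⟩
        rw [Matrix.SpecialLinearGroup.coe_mul, ← Matrix.mulVec_mulVec,
          ← sub_add_sub_cancel _ ((b : Matrix (Fin n) (Fin n) F) *ᵥ v) v]
        exact Submodule.add_mem _ (ha.2 _) (hb.2 v)
      inv_mem' := fun {a} ha => by
        have h1 : ((a⁻¹ : SLn) : Matrix (Fin n) (Fin n) F) * (a : Matrix (Fin n) (Fin n) F) = 1 := by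
          rw [← Matrix.SpecialLinearGroup.coe_mul, inv_mul_cancel, Matrix.SpecialLinearGroup.coe_one]
        have h2 : (a : Matrix (Fin n) (Fin n) F) * ((a⁻¹ : SLn) : Matrix (Fin n) (Fin n) F) = 1 := by
          rw [← Matrix.SpecialLinearGroup.coe_mul, mul_inv_cancel, Matrix.SpecialLinearGroup.coe_one]
        refine ⟨?_, fun v => ?_⟩
        · conv_lhs => rw [← ha.1, Matrix.mulVec_mulVec, h1, Matrix.one_mulVec]
        · have := ha.2 (((a⁻¹ : SLn) : Matrix (Fin n) (Fin n) F) *ᵥ v)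
          rw [Matrix.mulVec_mulVec, h2, Matrix.one_mulVec] at this
          rw [← neg_sub]
          exact Submodule.neg_mem _ this }
  have hUp : ∀ s ∈ U, s ^ p = 1 := by
    intro s hs
    obtain ⟨m, hm⟩ : ∃ m : Matrix (Fin n) (Fin n) F, (s : Matrix (Fin n) (Fin n) F) = 1 + m :=
      ⟨_, (add_sub_cancel _ _).symm⟩
    have hm2 : m * m = 0 := by
      refine Matrix.ext_iff_mulVec.2 fun v => ?_
      obtain ⟨c, hc⟩ := Submodule.mem_span_singleton.1 (hs.2 v)
      rw [hm, Matrix.add_mulVec, Matrix.one_mulVec, add_sub_cancel_left] at hc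
      have h0 := hs.1
      rw [hm, Matrix.add_mulVec, Matrix.one_mulVec, add_eq_left] at h0
      rw [← Matrix.mulVec_mulVec, ← hc, Matrix.mulVec_smul, h0, smul_zero, Matrix.zero_mulVec]
    refine Subtype.ext ?_
    show ((s ^ p : SLn) : Matrix (Fin n) (Fin n) F) = ((1 : SLn) : Matrix (Fin n) (Fin n) F)
    rw [Matrix.SpecialLinearGroup.coe_pow, Matrix.SpecialLinearGroup.coe_one, hm]
    haveI : Nonempty (Fin n) := ⟨⟨0, by omega⟩⟩
    haveI : CharP (Matrix (Fin n) (Fin n) F) p := Matrix.charP p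
    rw [add_pow_char_of_commute (p := p) (Commute.one_left m), one_pow, add_eq_left]
    obtain ⟨k, hk⟩ := Nat.exists_eq_add_of_le hp.out.two_le
    rw [hk, pow_add, pow_two, hm2, zero_mul]
  set Ubar : Subgroup PSLn := U.map (QuotientGroup.mk' _)
  have hnorm : ∀ g ∈ stabilizer PSLn P0, ∀ u ∈ Ubar, g * u * g⁻¹ ∈ Ubar := by
    intro g hg u hu
    obtain ⟨u, hu, rfl⟩ := hu
    induction g using QuotientGroup.induction_on with
    | _ t =>
      refine ⟨t * u * t⁻¹, ⟨?_, fun v => ?_⟩, rfl⟩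
      all_goals
        rw [mem_stabilizer_iff] at hg
        conv_lhs at hg => rw [← mk_rep P0]
        conv_rhs at hg => rw [← mk_rep P0]
        rw [psl_smul_mk] at hg
        obtain ⟨c, hc⟩ := (mk_eq_mk_iff' F _ _ _ _).1 hg
        have hc0 : c ≠ 0 := fun h0 => gl_ne_zero (Matrix.SpecialLinearGroup.toGL t) hv0
          (by rw [coe_toGL, ← hc, h0, zero_smul])
        have h1 : ((t⁻¹ : SLn) : Matrix (Fin n) (Fin n) F) * (t : Matrix (Fin n) (Fin n) F) = 1 := by
          rw [← Matrix.SpecialLinearGroup.coe_mul, inv_mul_cancel, Matrix.SpecialLinearGroup.coe_one]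
        have h2 : (t : Matrix (Fin n) (Fin n) F) * ((t⁻¹ : SLn) : Matrix (Fin n) (Fin n) F) = 1 := by
          rw [← Matrix.SpecialLinearGroup.coe_mul, mul_inv_cancel, Matrix.SpecialLinearGroup.coe_one]
        have hti : ((t⁻¹ : SLn) : Matrix (Fin n) (Fin n) F) *ᵥ v0 = c⁻¹ • v0 := by
          have := congrArg (fun x => ((t⁻¹ : SLn) : Matrix (Fin n) (Fin n) F) *ᵥ x) hc
          rw [Matrix.mulVec_smul, Matrix.mulVec_mulVec, h1, Matrix.one_mulVec] at this
          exact (eq_inv_smul_iff₀ hc0).2 this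
      · rw [Matrix.SpecialLinearGroup.coe_mul, Matrix.SpecialLinearGroup.coe_mul, ← Matrix.mulVec_mulVec,
          ← Matrix.mulVec_mulVec, hti, Matrix.mulVec_smul, hu.1, Matrix.mulVec_smul, ← hc, smul_smul,
          inv_mul_cancel₀ hc0, one_smul]
      · rw [Matrix.SpecialLinearGroup.coe_mul, Matrix.SpecialLinearGroup.coe_mul, ← Matrix.mulVec_mulVec,
          ← Matrix.mulVec_mulVec]
        set w := ((t⁻¹ : SLn) : Matrix (Fin n) (Fin n) F) *ᵥ v with hw
        obtain ⟨d, hd⟩ := Submodule.mem_span_singleton.1 (hu.2 w)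
        rw [← add_sub_cancel w ((u : Matrix (Fin n) (Fin n) F) *ᵥ w), Matrix.mulVec_add, hw, Matrix.mulVec_mulVec, h2,
          Matrix.one_mulVec, add_sub_cancel_left, ← hw, ← hd, Matrix.mulVec_smul, ← hc, smul_smul]
        exact Submodule.smul_mem _ _ (Submodule.mem_span_singleton_self _)
  -- the image
  set O : Subgroup PSLn := Ubar.map α.toMonoidHom
  have hOp : ∀ x ∈ O, x ^ p = 1 := by
    rintro _ ⟨_, ⟨u, hu, rfl⟩, rfl⟩
    rw [← map_pow, ← map_pow, hUp u hu, map_one, map_one]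
  have hpg : IsPGroup p O := fun x => ⟨1, Subtype.ext (by rw [pow_one, Subgroup.coe_pow, hOp x.1 x.2]; rfl)⟩
  have hN : ¬ p ∣ Nat.card (Pt F n) := by
    intro h
    have h1 := Projectivization.card' (k := F) (V := Fin n → F)
    obtain ⟨f, -, hf⟩ := FiniteField.card F p
    rw [Nat.card_fun, Nat.card_eq_fintype_card (α := F), Nat.card_eq_fintype_card (α := Fin n), Fintype.card_fin] at h1
    have hq : p ∣ Fintype.card F ^ n := dvd_pow (hf ▸ dvd_pow_self p f.ne_zero) (by omega)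
    rw [h1] at hq
    exact hp.out.one_lt.ne' (Nat.dvd_one.1 ((Nat.dvd_add_right (h.mul_right _)).1 hq))
  obtain ⟨Pfix, hPfix⟩ := hpg.nonempty_fixed_point_of_prime_not_dvd_card (Pt F n) hN
  refine ⟨Submodule.span F {v | ∃ P : Pt F n, (∀ x ∈ O, x • P = P) ∧ v = P.rep}, ?_, ?_, ?_⟩
  · intro h
    have : Pfix.rep ∈ (⊥ : Submodule F (Fin n → F)) :=
      h ▸ Submodule.subset_span ⟨Pfix, fun x hx => hPfix ⟨x, hx⟩, rfl⟩
    exact rep_nonzero Pfix ((Submodule.mem_bot F).1 this)
  · intro htop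
    -- a nontrivial element of `O`
    obtain ⟨u, hu⟩ : ∃ u : Fin n → F, u ∉ F ∙ v0 := by
      by_contra hh
      push Not at hh
      have : Module.finrank F (F ∙ v0 : Submodule F (Fin n → F)) = n := by
        rw [Submodule.eq_top_iff'.2 hh, finrank_top, Module.finrank_fintype_fun_eq_card, Fintype.card_fin]
      rw [finrank_span_singleton hv0] at this
      omega
    obtain ⟨φ, hφu, hφ0⟩ := exists_dual hu
    have hφv := hφ0 v0 (Submodule.mem_span_singleton_self v0)
    have hmem : tr v0 φ hφv ∈ U := by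
      refine ⟨by rw [tr_mulVec, hφv, zero_smul, add_zero], fun v => ?_⟩
      rw [tr_mulVec, add_sub_cancel_left]
      exact Submodule.smul_mem _ _ (Submodule.mem_span_singleton_self _)
    have hne : (QuotientGroup.mk (tr v0 φ hφv) : PSLn) ≠ 1 := by
      intro h
      rw [QuotientGroup.eq_one_iff] at h
      obtain ⟨r, -, hr⟩ := Matrix.SpecialLinearGroup.mem_center_iff.1 h
      have h1 := tr_mulVec v0 φ hφv u
      rw [← hr, hφu, one_smul, Matrix.scalar_apply, ← Matrix.smul_one_eq_diagonal, Matrix.smul_mulVec,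
        Matrix.one_mulVec] at h1
      rcases eq_or_ne r 1 with rfl | hr1
      · rw [one_smul, eq_comm, add_eq_left] at h1; exact hv0 h1
      · exact hu (Submodule.mem_span_singleton.2 ⟨(r - 1)⁻¹, by
          rw [inv_smul_eq_iff₀ (sub_ne_zero.2 hr1), sub_smul, one_smul, h1, add_sub_cancel_left]⟩)
    obtain ⟨t, ht⟩ := QuotientGroup.mk_surjective (α (QuotientGroup.mk (tr v0 φ hφv)))
    have htO : (QuotientGroup.mk t : PSLn) ∈ O := ht ▸ ⟨_, ⟨_, hmem, rfl⟩, rfl⟩
    have htp : t ^ p ∈ Subgroup.center SLn := by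
      rw [← QuotientGroup.eq_one_iff, QuotientGroup.mk_pow]; exact hOp _ htO
    obtain ⟨lam, -, hlam⟩ := Matrix.SpecialLinearGroup.mem_center_iff.1 htp
    -- all eigenvalues agree
    set S := {v | ∃ P : Pt F n, (∀ x ∈ O, x • P = P) ∧ v = P.rep}
    have hev : ∀ v ∈ S, ∃ c : F, c ^ p = lam ∧ (t : Matrix (Fin n) (Fin n) F) *ᵥ v = c • v := by
      rintro v ⟨P, hP, rfl⟩
      have h := hP _ htO
      conv_lhs at h => rw [← mk_rep P]
      conv_rhs at h => rw [← mk_rep P]
      rw [psl_smul_mk] at h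
      obtain ⟨c, hc⟩ := (mk_eq_mk_iff' F _ _ _ _).1 h
      refine ⟨c, ?_, hc.symm⟩
      have hpow : ∀ m : ℕ, (((t ^ m : SLn)) : Matrix (Fin n) (Fin n) F) *ᵥ P.rep = c ^ m • P.rep := by
        intro m
        induction m with
        | zero => simp
        | succ m ih =>
          rw [pow_succ', Matrix.SpecialLinearGroup.coe_mul, ← Matrix.mulVec_mulVec, ih, Matrix.mulVec_smul, ← hc,
            smul_smul, ← pow_succ]
      have h1 := hpow p
      rw [← hlam, Matrix.scalar_apply, ← Matrix.smul_one_eq_diagonal, Matrix.smul_mulVec, Matrix.one_mulVec] at h1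
      exact (smul_left_injective F (rep_nonzero P) h1).symm
    obtain ⟨c₀, hc₀, -⟩ := hev _ ⟨Pfix, fun x hx => hPfix ⟨x, hx⟩, rfl⟩
    have hall : ∀ v, (t : Matrix (Fin n) (Fin n) F) *ᵥ v = c₀ • v := by
      intro v
      have hv : v ∈ Submodule.span F S := htop ▸ Submodule.mem_top
      induction hv using Submodule.span_induction with
      | mem x hx =>
        obtain ⟨c, hc, hcx⟩ := hev x hx
        rw [hcx, frobenius_inj F p (show frobenius F p c = frobenius F p c₀ from hc.trans hc₀.symm)]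
      | zero => simp
      | add x y _ _ hx hy => rw [Matrix.mulVec_add, hx, hy, smul_add]
      | smul a x _ hx => rw [Matrix.mulVec_smul, hx, smul_comm]
    apply hne
    apply α.injective
    rw [map_one, ← ht, QuotientGroup.eq_one_iff]
    refine Matrix.SpecialLinearGroup.mem_center_iff.2 ⟨c₀, ?_, Matrix.ext_iff_mulVec.2 fun v => ?_⟩
    · have hd := t.2
      rw [show (t : Matrix (Fin n) (Fin n) F) = c₀ • 1 from Matrix.ext_iff_mulVec.2 fun v => by
        rw [hall, Matrix.smul_mulVec, Matrix.one_mulVec], Matrix.det_smul, Matrix.det_one, mul_one] at hd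
      exact hd
    · rw [hall, Matrix.scalar_apply, ← Matrix.smul_one_eq_diagonal, Matrix.smul_mulVec, Matrix.one_mulVec]
  · rintro _ ⟨g, hg, rfl⟩
    obtain ⟨t, ht⟩ := QuotientGroup.mk_surjective (α g)
    show α g ∈ _
    rw [← ht, mk_mem_stabSub_iff]
    refine Submodule.eq_of_le_of_finrank_eq ?_ (Submodule.equivMapOfInjective _ (sl_map_injective t) _).finrank_eq.symm
    rw [Submodule.map_span, Submodule.span_le]
    rintro _ ⟨_, ⟨P, hP, rfl⟩, rfl⟩
    have hQ : ∀ x ∈ O, x • ((QuotientGroup.mk t : PSLn) • P) = (QuotientGroup.mk t : PSLn) • P := by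
      intro x hx
      obtain ⟨u, hu, rfl⟩ := hx
      have h2 := hnorm g⁻¹ (inv_mem hg) u hu
      rw [inv_inv] at h2
      have h3 := hP _ ⟨_, h2, rfl⟩
      rw [MulEquiv.coe_toMonoidHom, map_mul, map_mul, map_inv, ← ht] at h3
      rw [mul_smul, mul_smul, inv_smul_eq_iff] at h3
      exact h3
    set Q := (QuotientGroup.mk t : PSLn) • P with hQdef
    rw [← mk_rep P, psl_smul_mk] at hQdef
    obtain ⟨a, ha⟩ := exists_smul_eq_mk_rep F _ (sl_ne_zero t (rep_nonzero P))
    have hmem : Q.rep ∈ Submodule.span F {v | ∃ P : Pt F n, (∀ x ∈ O, x • P = P) ∧ v = P.rep} :=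
      Submodule.subset_span ⟨Q, hQ, rfl⟩
    rw [hQdef, ← ha, Units.smul_def] at hmem
    exact (Submodule.smul_mem_iff _ a.ne_zero).1 hmem

/-- The image of a point stabiliser fixes a point or a hyperplane and nothing more. -/
theorem exists_point_or_hyperplane (hn : 2 ≤ n) (α : MulAut PSLn) (P0 : Pt F n) :
    ∃ W : Submodule F (Fin n → F), (stabilizer PSLn P0).map α.toMonoidHom = stabSub W ∧
      (Module.finrank F W = 1 ∨ Module.finrank F W = n - 1) := by
  classical
  obtain ⟨W, hbot, htop, hle⟩ := exists_fixed_subspace hn α P0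
  haveI : Nontrivial (Pt F n) := by
    refine ⟨⟨Projectivization.mk F (Pi.single ⟨0, by omega⟩ 1) (by simp),
      Projectivization.mk F (Pi.single ⟨1, by omega⟩ 1) (by simp), fun h => ?_⟩⟩
    obtain ⟨a, ha⟩ := (mk_eq_mk_iff' F _ _ _ _).1 h
    have := congrFun ha ⟨0, by omega⟩
    simp [Pi.single_apply, Fin.ext_iff] at this
  haveI : IsPreprimitive PSLn (Pt F n) := inferInstance
  have hco : IsCoatom (stabilizer PSLn P0) := (isCoatom_stabilizer_iff_preprimitive PSLn P0).2 inferInstance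
  have hne : stabSub W ≠ (⊤ : Subgroup PSLn) := by
    intro h
    obtain ⟨w, hw, hw0⟩ := (Submodule.ne_bot_iff W).1 hbot
    obtain ⟨u, -, hu⟩ := SetLike.exists_of_lt htop.lt_top
    have hwu : w ∉ F ∙ u := by
      intro h
      obtain ⟨a, rfl⟩ := Submodule.mem_span_singleton.1 h
      exact hu ((W.smul_mem_iff (fun ha : a = 0 => hw0 (by rw [ha, zero_smul]))).1 hw)
    obtain ⟨φ, hφw, hφ0⟩ := exists_dual hwu
    have hφu := hφ0 u (Submodule.mem_span_singleton_self u)
    have hm := (mk_mem_stabSub_iff W (tr u φ hφu)).1 (h ▸ Subgroup.mem_top _)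
    have : ((tr u φ hφu : SLn) : Matrix (Fin n) (Fin n) F) *ᵥ w ∈ W := hm.le ⟨w, hw, rfl⟩
    rw [tr_mulVec, hφw, one_smul] at this
    exact hu (by simpa using W.sub_mem this hw)
  set H := (stabilizer PSLn P0).map α.toMonoidHom
  have hH : H = stabSub W := by
    refine ((IsCoatom.le_iff_eq ?_ hne).1 hle).symm
    refine ⟨fun h => hco.1 ?_, fun K hK => ?_⟩
    · exact Subgroup.map_injective α.injective (h.trans (Subgroup.map_top_of_surjective _ α.surjective).symm)
    · have h1 : stabilizer PSLn P0 < K.comap α.toMonoidHom := by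
        rw [← Subgroup.map_lt_map_iff_of_injective (f := α.toMonoidHom) α.injective,
          Subgroup.map_comap_eq_self_of_surjective α.surjective]
        exact hK
      have h2 := hco.2 _ h1
      rw [← Subgroup.map_comap_eq_self_of_surjective (f := α.toMonoidHom) α.surjective K, h2,
        Subgroup.map_top_of_surjective _ α.surjective]
  refine ⟨W, hH, ?_⟩
  -- two transitivity on the orbit
  have key : ∀ s t : SLn, W.map (Matrix.toLin' (s : Matrix (Fin n) (Fin n) F)) ≠ W →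
      W.map (Matrix.toLin' (t : Matrix (Fin n) (Fin n) F)) ≠ W →
      Module.finrank F ↥(W ⊓ W.map (Matrix.toLin' (s : Matrix (Fin n) (Fin n) F))) =
        Module.finrank F ↥(W ⊓ W.map (Matrix.toLin' (t : Matrix (Fin n) (Fin n) F))) := by
    intro s t hs ht
    have hmov : ∀ r : SLn, W.map (Matrix.toLin' (r : Matrix (Fin n) (Fin n) F)) ≠ W →
        α.symm (QuotientGroup.mk r) • P0 ≠ P0 := by
      intro r hr h
      exact hr ((mk_mem_stabSub_iff W r).1 (hH ▸ ⟨_, h, α.apply_symm_apply _⟩))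
    obtain ⟨a, ha⟩ := QuotientGroup.mk_surjective (α.symm (QuotientGroup.mk s))
    obtain ⟨b, hb⟩ := QuotientGroup.mk_surjective (α.symm (QuotientGroup.mk t))
    have hP0a : P0 ≠ (α.symm (QuotientGroup.mk s)) • P0 := fun h => hmov s hs h.symm
    have hP0b : P0 ≠ (α.symm (QuotientGroup.mk t)) • P0 := fun h => hmov t ht h.symm
    obtain ⟨k, hk1, hk2⟩ := (is_two_pretransitive_iff (G := SLn) (α := Pt F n)).1 inferInstance hP0a hP0b
    obtain ⟨u, hu⟩ := QuotientGroup.mk_surjective (α (QuotientGroup.mk k))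
    have hk1' : (QuotientGroup.mk k : PSLn) • P0 = P0 := hk1
    have hk2' : (QuotientGroup.mk k : PSLn) • (α.symm (QuotientGroup.mk s)) • P0 =
        α.symm (QuotientGroup.mk t) • P0 := hk2
    have huW : W.map (Matrix.toLin' (u : Matrix (Fin n) (Fin n) F)) = W := by
      rw [← mk_mem_stabSub_iff, ← hH, hu]
      exact ⟨_, hk1', rfl⟩
    have hmem : (α.symm (QuotientGroup.mk t))⁻¹ * (QuotientGroup.mk k : PSLn) * α.symm (QuotientGroup.mk s) ∈
        stabilizer PSLn P0 := by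
      rw [mem_stabilizer_iff, mul_smul, mul_smul, hk2', inv_smul_smul]
    have h3 : (QuotientGroup.mk (t⁻¹ * u * s) : PSLn) ∈ stabSub W := by
      rw [← hH]
      refine ⟨_, hmem, ?_⟩
      rw [MulEquiv.coe_toMonoidHom, map_mul, map_mul, map_inv, α.apply_symm_apply, α.apply_symm_apply, ← hu]
      rfl
    rw [mk_mem_stabSub_iff, Matrix.SpecialLinearGroup.coe_mul, Matrix.SpecialLinearGroup.coe_mul, Matrix.toLin'_mul,
      Matrix.toLin'_mul, LinearMap.comp_assoc, Submodule.map_comp, Submodule.map_comp] at h3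
    have h4 : (W.map (Matrix.toLin' (s : Matrix (Fin n) (Fin n) F))).map (Matrix.toLin' (u : Matrix (Fin n) (Fin n) F)) =
        W.map (Matrix.toLin' (t : Matrix (Fin n) (Fin n) F)) := by
      conv_rhs => rw [← h3]
      rw [← Submodule.map_comp (Matrix.toLin' ((t⁻¹ : SLn) : Matrix (Fin n) (Fin n) F))
        (Matrix.toLin' (t : Matrix (Fin n) (Fin n) F)), ← Matrix.toLin'_mul, ← Matrix.SpecialLinearGroup.coe_mul, mul_inv_cancel]
      simp
    have h5 : W ⊓ W.map (Matrix.toLin' (t : Matrix (Fin n) (Fin n) F)) =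
        (W ⊓ W.map (Matrix.toLin' (s : Matrix (Fin n) (Fin n) F))).map (Matrix.toLin' (u : Matrix (Fin n) (Fin n) F)) := by
      rw [Submodule.map_inf _ (sl_map_injective u), huW, h4]
    rw [h5]
    exact (Submodule.equivMapOfInjective _ (sl_map_injective u) _).finrank_eq
  by_contra hcase
  push Not at hcase
  obtain ⟨hk1, hkn⟩ := hcase
  set kk := Module.finrank F W
  have hkk0 : kk ≠ 0 := fun h => hbot (Submodule.finrank_eq_zero.1 h)
  have hkklt : kk < n := by
    have := Submodule.finrank_lt htop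
    simpa using this
  -- coordinates
  let bW := Module.finBasis F W
  set w1 : Fin n → F := ((bW ⟨0, by omega⟩ : W) : Fin n → F)
  set w2 : Fin n → F := ((bW ⟨1, by omega⟩ : W) : Fin n → F)
  have hw1W : w1 ∈ W := (bW ⟨0, by omega⟩).2
  have hw2W : w2 ∈ W := (bW ⟨1, by omega⟩).2
  have hW2 : ∀ a b : F, a • w1 + b • w2 = 0 → a = 0 ∧ b = 0 := by
    intro a b h
    have h' : a • bW ⟨0, by omega⟩ + b • bW ⟨1, by omega⟩ = 0 := Subtype.ext h
    have hli := bW.linearIndependent.comp ![(⟨0, by omega⟩ : Fin kk), ⟨1, by omega⟩]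
      (by intro i j hij; fin_cases i <;> fin_cases j <;> simp_all [Fin.ext_iff])
    have e : (bW ∘ ![(⟨0, by omega⟩ : Fin kk), ⟨1, by omega⟩]) = ![bW ⟨0, by omega⟩, bW ⟨1, by omega⟩] := by
      funext i; fin_cases i <;> rfl
    rw [e] at hli
    exact LinearIndependent.pair_iff.1 hli a b h'
  obtain ⟨u1, hu1⟩ : ∃ u1, u1 ∉ W := by
    obtain ⟨u, -, hu⟩ := SetLike.exists_of_lt htop.lt_top
    exact ⟨u, hu⟩
  obtain ⟨u2, hu2⟩ : ∃ u2, u2 ∉ W ⊔ (F ∙ u1) := by
    by_contra hh
    push Not at hh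
    have h1 := Submodule.finrank_add_le_finrank_add_finrank W (F ∙ u1)
    have hu10 : u1 ≠ 0 := fun h => hu1 (by rw [h]; exact W.zero_mem)
    rw [Submodule.eq_top_iff'.2 hh, finrank_top, finrank_span_singleton hu10,
      Module.finrank_fintype_fun_eq_card, Fintype.card_fin] at h1
    omega
  -- functionals
  have hnot1 : w1 ∉ (F ∙ w2) ⊔ ((F ∙ u1) ⊔ (F ∙ u2)) := by
    intro h
    obtain ⟨z, hz, r, hr, e⟩ := Submodule.mem_sup.1 h
    obtain ⟨r1, hr1, r2, hr2, e'⟩ := Submodule.mem_sup.1 hr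
    obtain ⟨b, rfl⟩ := Submodule.mem_span_singleton.1 hz
    obtain ⟨c, rfl⟩ := Submodule.mem_span_singleton.1 hr1
    obtain ⟨d, rfl⟩ := Submodule.mem_span_singleton.1 hr2
    rcases eq_or_ne d 0 with rfl | hd
    · rcases eq_or_ne c 0 with rfl | hc
      · have := hW2 1 (-b) (by rw [← e, ← e']; module)
        exact one_ne_zero this.1
      · refine hu1 ((W.smul_mem_iff hc).1 ?_)
        rw [show c • u1 = w1 - b • w2 by rw [← e, ← e']; module]
        exact W.sub_mem hw1W (W.smul_mem _ hw2W)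
    · refine hu2 (Submodule.mem_sup.2 ⟨d⁻¹ • (w1 - b • w2), W.smul_mem _ (W.sub_mem hw1W (W.smul_mem _ hw2W)),
        (-(d⁻¹ * c)) • u1, Submodule.smul_mem _ _ (Submodule.mem_span_singleton_self _), ?_⟩)
      rw [← e, ← e']
      match_scalars <;> field_simp <;> ring
  obtain ⟨φ, hφ1, hφ0⟩ := exists_dual hnot1
  have hφw2 := hφ0 w2 (Submodule.mem_sup_left (Submodule.mem_span_singleton_self _))
  have hφu1 := hφ0 u1 (Submodule.mem_sup_right (Submodule.mem_sup_left (Submodule.mem_span_singleton_self _)))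
  have hφu2 := hφ0 u2 (Submodule.mem_sup_right (Submodule.mem_sup_right (Submodule.mem_span_singleton_self _)))
  have hnot2 : w2 ∉ (F ∙ w1) ⊔ ((F ∙ u1) ⊔ (F ∙ u2)) := by
    intro h
    obtain ⟨z, hz, r, hr, e⟩ := Submodule.mem_sup.1 h
    obtain ⟨r1, hr1, r2, hr2, e'⟩ := Submodule.mem_sup.1 hr
    obtain ⟨b, rfl⟩ := Submodule.mem_span_singleton.1 hz
    obtain ⟨c, rfl⟩ := Submodule.mem_span_singleton.1 hr1
    obtain ⟨d, rfl⟩ := Submodule.mem_span_singleton.1 hr2
    rcases eq_or_ne d 0 with rfl | hd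
    · rcases eq_or_ne c 0 with rfl | hc
      · have := hW2 (-b) 1 (by rw [← e, ← e']; module)
        exact one_ne_zero this.2
      · refine hu1 ((W.smul_mem_iff hc).1 ?_)
        rw [show c • u1 = w2 - b • w1 by rw [← e, ← e']; module]
        exact W.sub_mem hw2W (W.smul_mem _ hw1W)
    · refine hu2 (Submodule.mem_sup.2 ⟨d⁻¹ • (w2 - b • w1), W.smul_mem _ (W.sub_mem hw2W (W.smul_mem _ hw1W)),
        (-(d⁻¹ * c)) • u1, Submodule.smul_mem _ _ (Submodule.mem_span_singleton_self _), ?_⟩)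
      rw [← e, ← e']
      match_scalars <;> field_simp <;> ring
  obtain ⟨ψ, hψ2, hψ0⟩ := exists_dual hnot2
  have hψw1 := hψ0 w1 (Submodule.mem_sup_left (Submodule.mem_span_singleton_self _))
  have hψu1 := hψ0 u1 (Submodule.mem_sup_right (Submodule.mem_sup_left (Submodule.mem_span_singleton_self _)))
  have hψu2 := hψ0 u2 (Submodule.mem_sup_right (Submodule.mem_sup_right (Submodule.mem_span_singleton_self _)))
  set s := tr u1 φ hφu1
  set t := tr u2 ψ hψu2 * tr u1 φ hφu1
  have hsv : ∀ x, (s : Matrix (Fin n) (Fin n) F) *ᵥ x = x + (φ ⬝ᵥ x) • u1 := tr_mulVec u1 φ hφu1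
  have htv : ∀ x, (t : Matrix (Fin n) (Fin n) F) *ᵥ x = x + (φ ⬝ᵥ x) • u1 + (ψ ⬝ᵥ x) • u2 := fun x => by
    show ((tr u2 ψ hψu2 * tr u1 φ hφu1 : SLn) : Matrix (Fin n) (Fin n) F) *ᵥ x = _
    rw [Matrix.SpecialLinearGroup.coe_mul, ← Matrix.mulVec_mulVec, tr_mulVec, tr_mulVec, dotProduct_add,
      dotProduct_smul, hψu1, smul_zero, add_zero]
  -- the intersections
  let Φ1 : W →ₗ[F] F :=
    { toFun := fun x => φ ⬝ᵥ (x : Fin n → F)
      map_add' := fun x y => dotProduct_add _ _ _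
      map_smul' := fun a x => dotProduct_smul _ _ _ }
  let Φ2 : W →ₗ[F] F × F :=
    { toFun := fun x => (φ ⬝ᵥ (x : Fin n → F), ψ ⬝ᵥ (x : Fin n → F))
      map_add' := fun x y => Prod.ext (by exact dotProduct_add φ (x : Fin n → F) y) (by exact dotProduct_add ψ (x : Fin n → F) y)
      map_smul' := fun a x => Prod.ext (by exact dotProduct_smul a φ (x : Fin n → F)) (by exact dotProduct_smul a ψ (x : Fin n → F)) }
  have hI1 : W ⊓ W.map (Matrix.toLin' (s : Matrix (Fin n) (Fin n) F)) = (LinearMap.ker Φ1).map W.subtype := by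
    ext y
    constructor
    · rintro ⟨hy, x, hx, rfl⟩
      rw [Matrix.toLin'_apply, hsv] at hy ⊢
      rcases eq_or_ne (φ ⬝ᵥ x) 0 with h0 | h0
      · rw [h0, zero_smul, add_zero] at hy ⊢
        exact ⟨⟨x, hx⟩, h0, rfl⟩
      · exact absurd ((W.smul_mem_iff h0).1 (by simpa using W.sub_mem hy hx)) hu1
    · rintro ⟨⟨x, hx⟩, h0, rfl⟩
      refine ⟨hx, x, hx, ?_⟩
      rw [Matrix.toLin'_apply, hsv, show φ ⬝ᵥ x = 0 from h0, zero_smul, add_zero]; rfl
  have hI2 : W ⊓ W.map (Matrix.toLin' (t : Matrix (Fin n) (Fin n) F)) = (LinearMap.ker Φ2).map W.subtype := by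
    ext y
    constructor
    · rintro ⟨hy, x, hx, rfl⟩
      rw [Matrix.toLin'_apply, htv] at hy ⊢
      have hmem : (φ ⬝ᵥ x) • u1 + (ψ ⬝ᵥ x) • u2 ∈ W := by
        have := W.sub_mem hy hx
        rwa [add_assoc, add_sub_cancel_left] at this
      have hψ0' : ψ ⬝ᵥ x = 0 := by
        by_contra h0
        refine hu2 ((Submodule.smul_mem_iff _ h0).1 ?_)
        rw [← add_sub_cancel_left ((φ ⬝ᵥ x) • u1) ((ψ ⬝ᵥ x) • u2)]
        exact Submodule.sub_mem _ (Submodule.mem_sup_left hmem)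
          (Submodule.mem_sup_right (Submodule.smul_mem _ _ (Submodule.mem_span_singleton_self _)))
      have hφ0' : φ ⬝ᵥ x = 0 := by
        by_contra h0
        rw [hψ0', zero_smul, add_zero] at hmem
        exact hu1 ((W.smul_mem_iff h0).1 hmem)
      rw [hφ0', hψ0', zero_smul, zero_smul, add_zero, add_zero]
      exact ⟨⟨x, hx⟩, Prod.ext hφ0' hψ0', rfl⟩
    · rintro ⟨⟨x, hx⟩, h0, rfl⟩
      refine ⟨hx, x, hx, ?_⟩
      rw [Matrix.toLin'_apply, htv, show φ ⬝ᵥ x = 0 from congrArg Prod.fst h0,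
        show ψ ⬝ᵥ x = 0 from congrArg Prod.snd h0, zero_smul, zero_smul, add_zero, add_zero]; rfl
  have hd1 : Module.finrank F ↥(W ⊓ W.map (Matrix.toLin' (s : Matrix (Fin n) (Fin n) F))) + 1 = kk := by
    rw [hI1, Submodule.finrank_map_subtype_eq, show kk = Module.finrank F W from rfl, ← LinearMap.finrank_range_add_finrank_ker Φ1,
      LinearMap.range_eq_top.2 (fun c => ⟨c • ⟨w1, hw1W⟩, by
        show φ ⬝ᵥ (c • w1) = c
        rw [dotProduct_smul, hφ1, smul_eq_mul, mul_one]⟩), finrank_top, Module.finrank_self, add_comm]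
  have hd2 : Module.finrank F ↥(W ⊓ W.map (Matrix.toLin' (t : Matrix (Fin n) (Fin n) F))) + 2 = kk := by
    rw [hI2, Submodule.finrank_map_subtype_eq, show kk = Module.finrank F W from rfl, ← LinearMap.finrank_range_add_finrank_ker Φ2,
      LinearMap.range_eq_top.2 (fun c => ⟨c.1 • ⟨w1, hw1W⟩ + c.2 • ⟨w2, hw2W⟩, by
        show (φ ⬝ᵥ (c.1 • w1 + c.2 • w2), ψ ⬝ᵥ (c.1 • w1 + c.2 • w2)) = c
        simp only [dotProduct_add, dotProduct_smul, hφ1, hφw2, hψ2, hψw1, smul_eq_mul, mul_one, mul_zero, add_zero,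
          zero_add]⟩), finrank_top, Module.finrank_prod, Module.finrank_self, add_comm]
  have hs' : W.map (Matrix.toLin' (s : Matrix (Fin n) (Fin n) F)) ≠ W := fun h => by rw [h, inf_idem] at hd1; omega
  have ht' : W.map (Matrix.toLin' (t : Matrix (Fin n) (Fin n) F)) ≠ W := fun h => by rw [h, inf_idem] at hd2; omega
  have := key s t hs' ht'
  omega

end CfsgLib.KnownC.AutPSL
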