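import Cfsg.Agent.Lib.KnownC.AutPSL.Main

set_option autoImplicit false
set_option linter.unusedSectionVars false

/-! When two descriptions of an automorphism of `PSL_n` coincide. -/

namespace CfsgLib.KnownC.AutPSL

open Projectivization Matrix MulAction

variable {F : Type*} [Field F] {n : ℕ}

local notation "SLn" => Matrix.SpecialLinearGroup (Fin n) F
local notation "PSLn" => Matrix.ProjectiveSpecialLinearGroup (Fin n) F

/-- The semilinear map `v ↦ A σ(v)`. -/
def semiVec (A : GL (Fin n) F) (σ : F ≃+* F) : (Fin n → F) →ₛₗ[σ.toRingHom] (Fin n → F) where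
  toFun v := (A : Matrix (Fin n) (Fin n) F) *ᵥ fun i => σ (v i)
  map_add' v w := by
    rw [← Matrix.mulVec_add]; congr 1; funext i; exact map_add σ _ _
  map_smul' c v := by
    rw [← Matrix.mulVec_smul]; congr 1; funext i; exact map_mul σ _ _

theorem semiVec_apply (A : GL (Fin n) F) (σ : F ≃+* F) (v : Fin n → F) :
    semiVec A σ v = (A : Matrix (Fin n) (Fin n) F) *ᵥ fun i => σ (v i) := rfl

theorem semiVec_injective (A : GL (Fin n) F) (σ : F ≃+* F) : Function.Injective (semiVec A σ) := fun v w h => by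
  rw [semiVec_apply, semiVec_apply] at h
  have := congrArg (fun x => ((A⁻¹ : GL (Fin n) F) : Matrix (Fin n) (Fin n) F) *ᵥ x) h
  simp only [Matrix.mulVec_mulVec, ← Units.val_mul, inv_mul_cancel, Units.val_one, Matrix.one_mulVec] at this
  funext i
  exact σ.injective (congrFun this i)

/-- The map induced on points. -/
def semiPt (A : GL (Fin n) F) (σ : F ≃+* F) : Pt F n → Pt F n :=
  Projectivization.map (semiVec A σ) (semiVec_injective A σ)

theorem semiPt_mk (A : GL (Fin n) F) (σ : F ≃+* F) {v : Fin n → F} (hv : v ≠ 0) :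
    semiPt A σ (Projectivization.mk F v hv) =
      Projectivization.mk F (semiVec A σ v) (fun h => hv (semiVec_injective A σ (by rw [h, map_zero]))) := rfl

theorem semiPt_equivariant (A : GL (Fin n) F) (σ : F ≃+* F) (g : PSLn) (P : Pt F n) :
    semiPt A σ (g • P) = semiAut A σ g • semiPt A σ P := by
  induction g using QuotientGroup.induction_on with
  | _ s =>
    induction P using Projectivization.ind with
    | _ v hv =>
      rw [psl_smul_mk, semiPt_mk, semiPt_mk, semiAut_mk, psl_smul_mk]
      refine mk_congr _ _ 1 ?_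
      rw [one_smul, semiVec_apply, semiVec_apply, semi_smul]

theorem semiPt_bijective (A : GL (Fin n) F) (σ : F ≃+* F) : Function.Bijective (semiPt A σ) := by
  refine ⟨?_, fun P => ?_⟩
  · haveI : RingHomInvPair σ.toRingHom σ.symm.toRingHom := RingHomInvPair.of_ringEquiv σ
    exact Projectivization.map_injective (τ := σ.symm.toRingHom) _ (semiVec_injective A σ)
  induction P using Projectivization.ind with
  | _ w hw =>
    have hne : (fun i => σ.symm ((((A⁻¹ : GL (Fin n) F) : Matrix (Fin n) (Fin n) F) *ᵥ w) i)) ≠ 0 := fun h =>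
      gl_ne_zero A⁻¹ hw (funext fun i => by
        have := congrFun h i
        simpa using this)
    refine ⟨Projectivization.mk F _ hne, ?_⟩
    rw [semiPt_mk]
    refine mk_congr _ _ 1 ?_
    rw [one_smul, semiVec_apply]
    simp only [RingEquiv.apply_symm_apply]
    rw [Matrix.mulVec_mulVec, ← Units.val_mul, mul_inv_cancel, Units.val_one, Matrix.one_mulVec]

theorem semiAut_map_stab (A : GL (Fin n) F) (σ : F ≃+* F) (P : Pt F n) :
    (stabilizer PSLn P).map (semiAut A σ).toMonoidHom = stabilizer PSLn (semiPt A σ P) := by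
  ext x
  obtain ⟨y, rfl⟩ := (semiAut A σ).surjective x
  rw [Subgroup.mem_map_equiv, MulEquiv.symm_apply_apply, mem_stabilizer_iff, mem_stabilizer_iff, ← semiPt_equivariant,
    (semiPt_bijective A σ).1.eq_iff]

theorem exists_psl_move {P Q : Pt F n} (h : P ≠ Q) : ∃ g : PSLn, g • P = P ∧ g • Q ≠ Q := by
  induction P using Projectivization.ind with
  | _ v hv =>
    induction Q using Projectivization.ind with
    | _ w hw =>
      have hw' : w ∉ (F ∙ v) := fun hm => by
        obtain ⟨c, hc⟩ := Submodule.mem_span_singleton.1 hm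
        exact h (mk_congr hw hv c hc).symm
      obtain ⟨φ, hφw, hφ⟩ := exists_dual hw'
      have hφv := hφ v (Submodule.mem_span_singleton_self v)
      refine ⟨QuotientGroup.mk (tr v φ hφv), ?_, ?_⟩
      · rw [psl_smul_mk]
        exact mk_congr _ _ 1 (by rw [tr_mulVec, hφv, zero_smul, add_zero, one_smul])
      · rw [psl_smul_mk]
        intro e
        obtain ⟨c, hc⟩ := (mk_eq_mk_iff' F _ _ _ _).1 e
        rw [tr_mulVec, hφw, one_smul] at hc
        rcases eq_or_ne c 1 with rfl | hc1
        · rw [one_smul, left_eq_add] at hc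
          exact hv hc
        · refine hw' (Submodule.mem_span_singleton.2 ⟨(c - 1)⁻¹, ?_⟩)
          rw [inv_smul_eq_iff₀ (sub_ne_zero.2 hc1), sub_smul, one_smul, hc, add_sub_cancel_left]

theorem semi_eq_one (hn : 2 ≤ n) {A : GL (Fin n) F} {σ : F ≃+* F} (h : semiAut A σ = 1) :
    σ = RingEquiv.refl F ∧ ∃ c : Fˣ, (A : Matrix (Fin n) (Fin n) F) = (c : F) • (1 : Matrix (Fin n) (Fin n) F) := by
  have hfix : ∀ P, semiPt A σ P = P := fun P => by
    by_contra hP
    obtain ⟨g, h1, h2⟩ := exists_psl_move (Ne.symm hP)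
    have := semiPt_equivariant A σ g P
    rw [h1, h, MulAut.one_apply] at this
    exact h2 this.symm
  have hvec : ∀ v : Fin n → F, v ≠ 0 → ∃ c : F, c • v = semiVec A σ v := fun v hv =>
    (mk_eq_mk_iff' F _ _ _ _).1 ((semiPt_mk A σ hv).symm.trans (hfix _))
  have hcol : ∀ i, ∃ c : F, semiVec A σ (Pi.single i 1) = c • Pi.single i 1 := fun i => by
    obtain ⟨c, hc⟩ := hvec (Pi.single i 1) (by simp)
    exact ⟨c, hc.symm⟩
  choose c hc using hcol
  have hpair : ∀ i j, i ≠ j → ∀ a : F, σ a * c j = c i * a := by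
    intro i j hij a
    have hne : (Pi.single i 1 + a • Pi.single j 1 : Fin n → F) ≠ 0 := fun h0 => by
      have := congrFun h0 i
      simp [hij] at this
    obtain ⟨d, hd⟩ := hvec _ hne
    rw [map_add, LinearMap.map_smulₛₗ, hc, hc] at hd
    have hi := congrFun hd i
    have hj := congrFun hd j
    simp [hij, Ne.symm hij] at hi hj
    rw [← hj, hi]
  obtain ⟨i0, i1, h01⟩ : ∃ i0 i1 : Fin n, i0 ≠ i1 := ⟨⟨0, by omega⟩, ⟨1, by omega⟩, by simp⟩
  have hc0 : ∀ i, c i = c i0 := fun i => by
    rcases eq_or_ne i i0 with rfl | hi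
    · rfl
    · have := hpair i i0 hi 1
      simpa using this.symm
  have hc_ne : c i0 ≠ 0 := fun h0 => by
    have := semiVec_injective A σ (a₁ := Pi.single i0 1) (a₂ := 0) (by rw [hc, h0, zero_smul, map_zero])
    simpa using congrFun this i0
  have hσ : σ = RingEquiv.refl F := RingEquiv.ext fun a => by
    have := hpair i0 i1 h01 a
    rw [hc0 i1, mul_comm (c i0)] at this
    exact mul_right_cancel₀ hc_ne this
  refine ⟨hσ, Units.mk0 _ hc_ne, ?_⟩
  ext i j
  have := congrFun (hc j) i
  rw [semiVec_apply, hσ] at this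
  simp only [RingEquiv.refl_apply, Matrix.mulVec_single_one, Matrix.col_apply, Pi.smul_apply, smul_eq_mul] at this
  rw [this, hc0 j, Units.val_mk0, Matrix.smul_apply, smul_eq_mul, Matrix.one_apply, Pi.single_apply]

/-- Scalar matrices. -/
def scl (c : Fˣ) : GL (Fin n) F := Units.map (Matrix.scalar (Fin n)).toMonoidHom c

theorem scl_coe (c : Fˣ) : ((scl c : GL (Fin n) F) : Matrix (Fin n) (Fin n) F) = (c : F) • (1 : Matrix (Fin n) (Fin n) F) := by
  show Matrix.scalar (Fin n) (c : F) = _
  ext i j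
  simp [Matrix.diagonal, Matrix.one_apply]

theorem scl_comm (c : Fˣ) (A : GL (Fin n) F) : scl c * A = A * scl c := by
  refine Units.ext ?_
  rw [Units.val_mul, Units.val_mul, scl_coe]
  simp

theorem scl_mul (c d : Fˣ) : (scl (c * d) : GL (Fin n) F) = scl c * scl d := map_mul _ c d

theorem scl_one : (scl 1 : GL (Fin n) F) = 1 := map_one _

theorem map_scl (σ : F ≃+* F) (c : Fˣ) :
    Matrix.GeneralLinearGroup.map σ.toRingHom (scl c : GL (Fin n) F) = scl (Units.map σ.toRingHom.toMonoidHom c) := by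
  refine Units.ext ?_
  rw [scl_coe]
  ext i j
  show σ (((scl c : GL (Fin n) F) : Matrix (Fin n) (Fin n) F) i j) = _
  rw [scl_coe]
  simp [Matrix.one_apply, apply_ite σ]

theorem semiAut_scl (c : Fˣ) : semiAut (scl c : GL (Fin n) F) (RingEquiv.refl F) = 1 := by
  refine MulEquiv.ext fun x => ?_
  induction x using QuotientGroup.induction_on with
  | _ s =>
    rw [semiAut_mk]
    refine congrArg _ (Subtype.ext ?_)
    rw [semiSL_coe]
    have h : ((scl c : GL (Fin n) F) : Matrix (Fin n) (Fin n) F) * (s : Matrix (Fin n) (Fin n) F) =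
        (s : Matrix (Fin n) (Fin n) F) * ((scl c : GL (Fin n) F) : Matrix (Fin n) (Fin n) F) := by
      rw [scl_coe]; simp
    show _ * (s : Matrix (Fin n) (Fin n) F) * _ = _
    rw [h, Units.mul_inv_cancel_right]

theorem semiAut_scl_mul (c : Fˣ) (A : GL (Fin n) F) (σ : F ≃+* F) : semiAut (scl c * A) σ = semiAut A σ := by
  have h := semiAut_mul (scl c) A (RingEquiv.refl F) σ
  rw [semiAut_scl, one_mul] at h
  exact h.symm

theorem semiAut_inv (A : GL (Fin n) F) (σ : F ≃+* F) :
    (semiAut A σ)⁻¹ = semiAut (Matrix.GeneralLinearGroup.map σ.symm.toRingHom A⁻¹) σ.symm := by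
  refine inv_eq_of_mul_eq_one_right ?_
  rw [semiAut_mul, ← semiAut_one]
  congr 1
  · refine Units.ext ?_
    rw [Units.val_mul]
    show (A : Matrix (Fin n) (Fin n) F) * ((((A⁻¹ : GL (Fin n) F) : Matrix (Fin n) (Fin n) F)).map σ.symm).map σ = _
    rw [map_symm_map, ← Units.val_mul, mul_inv_cancel]
  · exact RingEquiv.ext fun x => σ.apply_symm_apply x

theorem semi_eq_iff (hn : 2 ≤ n) {A B : GL (Fin n) F} {σ τ : F ≃+* F} :
    semiAut A σ = semiAut B τ ↔ σ = τ ∧ ∃ c : Fˣ, A = scl c * B := by
  constructor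
  · intro h
    have h1 : (semiAut B τ)⁻¹ * semiAut A σ = 1 := by rw [h, inv_mul_cancel]
    rw [semiAut_inv, semiAut_mul] at h1
    obtain ⟨hσ, c, hc⟩ := semi_eq_one hn h1
    have hστ : σ = τ := RingEquiv.ext fun x => by
      have := RingEquiv.congr_fun hσ x
      simpa using congrArg τ this
    refine ⟨hστ, Units.map τ.toRingHom.toMonoidHom c, ?_⟩
    rw [← map_mul, ← scl_coe] at hc
    have h2 := congrArg (Matrix.GeneralLinearGroup.map τ.toRingHom) (Units.ext hc : _ = (scl c : GL (Fin n) F))
    have h3 : ∀ M : GL (Fin n) F, Matrix.GeneralLinearGroup.map τ.toRingHom (Matrix.GeneralLinearGroup.map τ.symm.toRingHom M) = M :=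
      fun M => Units.ext (map_symm_map τ _)
    rw [h3, map_scl] at h2
    rw [scl_comm, ← h2, mul_inv_cancel_left]
  · rintro ⟨rfl, c, rfl⟩
    exact semiAut_scl_mul c B _

theorem it_ne_semi (hn : 3 ≤ n) (A : GL (Fin n) F) (σ : F ≃+* F) : (itAut : MulAut PSLn) ≠ semiAut A σ := by
  intro h
  classical
  let i0 : Fin n := ⟨0, by omega⟩
  let W : Submodule F (Fin n → F) := LinearMap.ker (LinearMap.proj i0 : (Fin n → F) →ₗ[F] F)
  have hW : Module.finrank F W = n - 1 := by
    have h1 := LinearMap.finrank_range_add_finrank_ker (LinearMap.proj i0 : (Fin n → F) →ₗ[F] F)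
    rw [LinearMap.range_eq_top.2 (fun x => ⟨Pi.single i0 x, by simp⟩), finrank_top, Module.finrank_self,
      Module.finrank_fintype_fun_eq_card, Fintype.card_fin] at h1
    change 1 + Module.finrank F W = n at h1
    omega
  obtain ⟨Q, hQ⟩ := itAut_stab hW (by omega)
  obtain ⟨P, rfl⟩ := (semiPt_bijective A σ).2 Q
  rw [h, ← semiAut_map_stab] at hQ
  have hWP := Subgroup.map_injective (f := (semiAut A σ).toMonoidHom) (semiAut A σ).injective hQ
  induction P using Projectivization.ind with
  | _ p hp =>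
    obtain ⟨v, hv⟩ : ∃ v, v ∉ W := ⟨Pi.single i0 1, by simp [W, LinearMap.mem_ker]⟩
    obtain ⟨w, hw, hwv⟩ : ∃ w, w ∈ W ∧ w ∉ (F ∙ p) ⊔ (F ∙ v) := by
      by_contra hcon
      simp only [not_exists, not_and, not_not] at hcon
      have h2 : Module.finrank F ↥((F ∙ p) ⊔ (F ∙ v)) ≤ 2 := by
        refine (Submodule.finrank_add_le_finrank_add_finrank _ _).trans (le_of_eq ?_)
        rw [finrank_span_singleton hp, finrank_span_singleton (fun h0 : v = 0 => hv (h0 ▸ W.zero_mem))]
      have hlt : W < (F ∙ p) ⊔ (F ∙ v) := lt_of_le_of_ne hcon fun e => hv (by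
        rw [e]; exact Submodule.mem_sup_right (Submodule.mem_span_singleton_self v))
      have := Submodule.finrank_lt_finrank_of_lt hlt
      omega
    obtain ⟨φ, hφw, hφ⟩ := exists_dual hwv
    have hφv := hφ v (Submodule.mem_sup_right (Submodule.mem_span_singleton_self v))
    have hmem : (QuotientGroup.mk (tr v φ hφv) : PSLn) ∈ stabilizer PSLn (Projectivization.mk F p hp) := by
      rw [mem_stabilizer_iff, psl_smul_mk]
      exact mk_congr _ _ 1 (by rw [tr_mulVec, hφ p (Submodule.mem_sup_left (Submodule.mem_span_singleton_self p)), zero_smul, add_zero, one_smul])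
    rw [← hWP, mk_mem_stabSub_iff] at hmem
    have : w + v ∈ W := by
      rw [← hmem]
      exact ⟨w, hw, by rw [Matrix.toLin'_apply, tr_mulVec, hφw, one_smul]⟩
    exact hv (by simpa using W.sub_mem this hw)

end CfsgLib.KnownC.AutPSL
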